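import Mathlib
import Cfsg.Agent.Base
import Cfsg.Agent.Lib.LocStruct.SylowIn
import Cfsg.Agent.Lib.Core.CoprimeAbelian
import Cfsg.Agent.Lib.Core.CoprimeSylow
import Cfsg.Agent.Lib.Core.Fitting

/-!
# Sets of subgroups of order p pairwise generating a fixed odd group: definitions

`D` is a set of subgroups ("points").  `gen D H` is generated by the points inside `H`.
-/

set_option autoImplicit false
set_option linter.unusedSectionVars false

namespace H42F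

open Subgroup H69
open scoped commutatorElement

variable {G : Type*} [Group G]

/-- the subgroup generated by the points inside `H` -/
def gen (D : Set (Subgroup G)) (H : Subgroup G) : Subgroup G := sSup {B | B ∈ D ∧ B ≤ H}

/-- `W X = X' ⊓ C(X)` -/
def W (X : Subgroup G) : Subgroup G := ⁅X, X⁆ ⊓ 𝐂(X)

/-- the subgroup generated by the points centralized by `t` -/
def Xc (D : Set (Subgroup G)) (t : G) : Subgroup G := gen D (centralizer {t})

/-- the subgroup generated by the points normalizing `X'` -/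
def Yq (D : Set (Subgroup G)) (X : Subgroup G) : Subgroup G := gen D 𝐍(⁅X, X⁆)

/-- proper subgroup generated by the points it contains (at least one) -/
structure Sub (D : Set (Subgroup G)) (X : Subgroup G) : Prop where
  ne_top : X ≠ ⊤
  gen_eq : gen D X = X
  pt : ∃ A ∈ D, A ≤ X

/-- invariant set of subgroups of odd prime order `p` -/
structure Pts (p : ℕ) (D : Set (Subgroup G)) : Prop where
  prime : p.Prime
  odd : p ≠ 2
  card : ∀ A ∈ D, Nat.card A = p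
  inv : ∀ A ∈ D, ∀ g : G, A ^ᶜ g ∈ D

/-- the hypothesis of the theorem, with the order `q ^ a * p` of `F` -/
structure FS (p q : ℕ) (D : Set (Subgroup G)) (F : Type*) [Group F] : Prop extends Pts p D where
  qprime : q.Prime
  qodd : q ≠ 2
  ne : p ≠ q
  cardF : ∃ a : ℕ, Nat.card F = q ^ a * p
  solvF : Group.IsSolvable F
  iso : ∀ A ∈ D, ∀ B ∈ D, A ≠ B → Nonempty (↥(A ⊔ B) ≃* F)

/-- local structure of `X`: `X = X' A`, `X'` a `q`-group, `C_{X'}(A)` central -/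
structure Loc (q : ℕ) (D : Set (Subgroup G)) (X : Subgroup G) : Prop where
  L1 : IsPGroup q (⁅X, X⁆ : Subgroup G)
  L2 : ∀ A ∈ D, A ≤ X → X ≤ ⁅X, X⁆ ⊔ A
  L3 : ∀ A ∈ D, A ≤ X → ⁅X, X⁆ ⊓ 𝐂(A) ≤ 𝐂(X)

/-- the geometry of a minimal counterexample (inherited by the quotient by the radical) -/
structure Geo (p q : ℕ) (D : Set (Subgroup G)) : Prop extends Pts p D where
  qprime : q.Prime
  qodd : q ≠ 2
  ne : p ≠ q
  top : sSup D = ⊤
  nonempty : D.Nonempty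
  pair : ∀ A ∈ D, ∀ B ∈ D, A ⊔ B ≠ ⊤
  loc : ∀ X, Sub D X → Loc q D X

def NoW (D : Set (Subgroup G)) : Prop := ∀ X, Sub D X → W X = ⊥

def Cl2 (D : Set (Subgroup G)) : Prop := ∀ X, Sub D X → ⁅⁅X, X⁆, ⁅X, X⁆⁆ ≤ 𝐂(X)

def ZQ (D : Set (Subgroup G)) : Prop := ∀ X, Sub D X → ⁅X, X⁆ ⊓ 𝐂(⁅X, X⁆) ≤ 𝐂(X)

/-- no nontrivial solvable normal subgroup -/
def Rad (G : Type*) [Group G] : Prop := ∀ N : Subgroup G, N.Normal → Group.IsSolvable N → N = ⊥

def Fix (D : Set (Subgroup G)) (N : Subgroup G) : Prop :=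
  ∀ (X Y A : Subgroup G) (w : G), Sub D X → Sub D Y → A ∈ D → w ∈ W X → w ∉ N → w ∈ 𝐍(Y) → A ≤ Y →
    A ≤ centralizer {w} → Y ≤ centralizer {w}

structure Hard (p q : ℕ) (D : Set (Subgroup G)) : Prop extends Geo p q D where
  cl2 : Cl2 D
  fix : Fix D ⊥
  rad : Rad G

/-- block: maximal `Sub` with nontrivial `W` -/
structure Blk (D : Set (Subgroup G)) (B : Subgroup G) : Prop where
  sub : Sub D B
  w : W B ≠ ⊥
  max : ∀ Y, Sub D Y → B ≤ Y → Y = B

/-- involution centralizing a point -/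
structure Plus (D : Set (Subgroup G)) (t : G) : Prop where
  ord : orderOf t = 2
  pt : ∃ A ∈ D, A ≤ centralizer {t}

/-- the blocks attached to the involution `t` -/
structure Bt (D : Set (Subgroup G)) (t : G) (B : Subgroup G) : Prop where
  blk : Blk D B
  le : Xc D t ≤ B
  norm : t ∈ 𝐍(B)
  w : W B ⊓ centralizer {t} ≠ ⊥

/-- flat subgroup -/
structure Fl (D : Set (Subgroup G)) (Y : Subgroup G) : Prop where
  sub : Sub D Y
  w : W Y = ⊥
  q : ⁅Y, Y⁆ ≠ ⊥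
  fl : ∀ I, Sub D I → I ≤ Y → ⁅I, I⁆ ≠ ⊥ → Yq D I = Y
  two : ∃ B B', Blk D B ∧ Blk D B' ∧ B ≠ B' ∧ Y ≤ B ∧ Y ≤ B'

/-- `I = gen (Y ⊓ C(z))` -/
def II (D : Set (Subgroup G)) (Y : Subgroup G) (z : G) : Subgroup G := gen D (Y ⊓ centralizer {z})

/-- `P = W (gen C(z)) ⊓ N(Y)` -/
def PP (D : Set (Subgroup G)) (Y : Subgroup G) (z : G) : Subgroup G := W (Xc D z) ⊓ 𝐍(Y)

/-- `T₁ = I' W(Y)` -/
def T1 (D : Set (Subgroup G)) (Y : Subgroup G) (z : G) : Subgroup G := ⁅II D Y z, II D Y z⁆ ⊔ W Y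

/-- `T₀ = I' (W Y ⊓ N(gen C(z))) P Z(G)` -/
def T0 (D : Set (Subgroup G)) (Y : Subgroup G) (z : G) : Subgroup G :=
  ⁅II D Y z, II D Y z⁆ ⊔ (W Y ⊓ 𝐍(Xc D z)) ⊔ PP D Y z ⊔ center G

/-- the configuration of the half lemma -/
structure HC (D : Set (Subgroup G)) (Y A : Subgroup G) (z : G) : Prop where
  sub : Sub D Y
  zW : z ∈ W (Xc D z)
  zc : z ∉ center G
  pt : A ∈ D
  AY : A ≤ Y
  Az : A ≤ centralizer {z}
  zN : z ∈ 𝐍(Y)
  nle : ¬ Y ≤ centralizer {z}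
  WI : W (II D Y z) ≤ center G

/-- the subgroup `J` of the half lemma -/
structure HJ (D : Set (Subgroup G)) (Y : Subgroup G) (z : G) (J : Subgroup G) : Prop where
  sub : Sub D J
  IJ : II D Y z ≤ J
  JY : J ≤ Y
  nle : ¬ ⁅J, J⁆ ≤ T1 D Y z
  comm : ⁅⁅J, J⁆, PP D Y z⁆ ≤ T1 D Y z

/-- the 2-group configuration coming from a tightly embedded subgroup -/
structure TCfg (S T R : Subgroup G) (u : G) : Prop where
  p2 : IsPGroup 2 S
  TS : T ≤ S
  RS : R ≤ S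
  norm : S ≤ 𝐍(T)
  sup : S ≤ T ⊔ R
  disj : R ⊓ T = ⊥
  uR : u ∈ R
  u2 : orderOf u = 2
  uniq : ∀ v ∈ R, orderOf v = 2 → v = u
  comm : ⁅R, T ⊓ 𝐍(R)⁆ = ⊥
  iso : Nonempty (↥(T ⊓ 𝐍(R)) ≃* ↥R)
  cent : T ⊓ centralizer {u} ≤ 𝐍(R)
  four : ∃ E : Subgroup G, E ≤ T ∧ IsKleinFour E

/-- the element `y` of the 2-group configuration, `X = T ⊓ N(R)` -/
structure TY (T R : Subgroup G) (y : G) : Prop where
  cyc : IsCyclic ↥(T ⊓ 𝐍(R))
  ab : ⁅R ⊔ (T ⊓ 𝐍(R)), R ⊔ (T ⊓ 𝐍(R))⁆ = ⊥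
  yT : y ∈ T
  yX : y ∉ 𝐍(R)
  yN : y ∈ 𝐍(R ⊔ (T ⊓ 𝐍(R)))
  inv : ∀ x ∈ T ⊓ 𝐍(R), y * x * y⁻¹ = x⁻¹
  fpf : ∀ r ∈ R, y * r * y⁻¹ = r → r = 1
  two : ∀ z ∈ T, z ∈ 𝐍(R ⊔ (T ⊓ 𝐍(R))) → z ∈ 𝐍(R) ∨ z * y⁻¹ ∈ 𝐍(R)

section gen

variable {D : Set (Subgroup G)}

theorem le_gen {B H : Subgroup G} (hB : B ∈ D) (h : B ≤ H) : B ≤ gen D H := le_sSup ⟨hB, h⟩

theorem gen_le_iff {H K : Subgroup G} : gen D H ≤ K ↔ ∀ B ∈ D, B ≤ H → B ≤ K :=
  ⟨fun h _ hB hBH => (le_gen hB hBH).trans h, fun h => sSup_le fun B hB => h B hB.1 hB.2⟩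

theorem gen_le (H : Subgroup G) : gen D H ≤ H := gen_le_iff.2 fun _ _ h => h

theorem gen_mono {H K : Subgroup G} (h : H ≤ K) : gen D H ≤ gen D K :=
  gen_le_iff.2 fun _ hB hBH => le_gen hB (hBH.trans h)

theorem gen_gen (H : Subgroup G) : gen D (gen D H) = gen D H :=
  le_antisymm (gen_le _) (gen_le_iff.2 fun _ hB hBH => le_gen hB (le_gen hB hBH))

theorem le_gen_iff {B H : Subgroup G} (hB : B ∈ D) : B ≤ gen D H ↔ B ≤ H :=
  ⟨fun h => h.trans (gen_le H), le_gen hB⟩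

theorem le_gen_of_gen_eq {X H : Subgroup G} (hX : gen D X = X) (h : X ≤ H) : X ≤ gen D H :=
  hX.symm.le.trans (gen_mono h)

theorem Sub.le_gen {X H : Subgroup G} (hX : Sub D X) (h : X ≤ H) : X ≤ gen D H :=
  le_gen_of_gen_eq hX.gen_eq h

theorem Sub.le_of_pts {X H : Subgroup G} (hX : Sub D X) (h : ∀ B ∈ D, B ≤ X → B ≤ H) : X ≤ H :=
  hX.gen_eq.symm.le.trans (gen_le_iff.2 h)

theorem gen_top (h : sSup D = ⊤) : gen D ⊤ = ⊤ :=
  top_le_iff.1 (h.symm.le.trans (sSup_le fun _ hB => le_gen hB le_top))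

theorem sub_gen {H A : Subgroup G} (hH : H ≠ ⊤) (hA : A ∈ D) (hAH : A ≤ H) : Sub D (gen D H) :=
  ⟨fun h => hH (top_le_iff.1 (h.symm.le.trans (gen_le H))), gen_gen H, A, hA, le_gen hA hAH⟩

theorem gen_pair {A B : Subgroup G} (hA : A ∈ D) (hB : B ∈ D) : gen D (A ⊔ B) = A ⊔ B :=
  le_antisymm (gen_le _) (sup_le (le_gen hA le_sup_left) (le_gen hB le_sup_right))

theorem Xc_le (t : G) : Xc D t ≤ centralizer {t} := gen_le _

theorem le_Xc {B : Subgroup G} {t : G} (hB : B ∈ D) (h : B ≤ centralizer {t}) : B ≤ Xc D t :=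
  le_gen hB h

theorem W_le_comm (X : Subgroup G) : W X ≤ ⁅X, X⁆ := inf_le_left

theorem W_le_cent (X : Subgroup G) : W X ≤ 𝐂(X) := inf_le_right

theorem comm_le (X : Subgroup G) : ⁅X, X⁆ ≤ X := commutator_le_of_le le_rfl le_rfl

theorem W_le (X : Subgroup G) : W X ≤ X := (W_le_comm X).trans (comm_le X)

theorem W_le_cent_W (X : Subgroup G) : W X ≤ 𝐂(W X) :=
  (W_le_cent X).trans (centralizer_anti (W_le X))

theorem le_cent_of_mem_W {X : Subgroup G} {w : G} (hw : w ∈ W X) : X ≤ centralizer {w} := by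
  intro x hx
  rw [mem_centralizer_singleton_iff]
  exact mem_centralizer_iff_commute.1 (W_le_cent X hw) x hx

theorem cj_W (X : Subgroup G) (g : G) : W X ^ᶜ g = W (X ^ᶜ g) := by
  unfold W
  rw [cj_inf, cj_commutator, cj_centralizer]

theorem normalizer_le_comm (X : Subgroup G) : 𝐍(X) ≤ 𝐍(⁅X, X⁆) :=
  H69.le_normalizer_commutator le_rfl le_rfl

theorem normalizer_le_W (X : Subgroup G) : 𝐍(X) ≤ 𝐍(W X) :=
  normalizer_le_normalizer_of_cj fun g h => by rw [cj_W, h]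

theorem le_normalizer_comm (X : Subgroup G) : X ≤ 𝐍(⁅X, X⁆) :=
  le_normalizer.trans (normalizer_le_comm X)

theorem mem_centralizer_singleton_comm {a b : G} : a ∈ centralizer ({b} : Set G) ↔ b ∈ centralizer ({a} : Set G) := by
  rw [mem_centralizer_singleton_iff, mem_centralizer_singleton_iff, eq_comm]

theorem le_centralizer_singleton_iff {X : Subgroup G} {t : G} : X ≤ centralizer {t} ↔ t ∈ 𝐂(X) := by
  rw [mem_centralizer_iff_commute]
  exact ⟨fun h a ha => mem_centralizer_singleton_iff.1 (h ha), fun h a ha => mem_centralizer_singleton_iff.2 (h a ha)⟩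

theorem centralizer_ne_top {z : G} (hz : z ∉ center G) : centralizer ({z} : Set G) ≠ ⊤ := by
  intro h
  apply hz
  rw [mem_center_iff]
  intro g
  exact mem_centralizer_singleton_iff.1 (h.symm ▸ mem_top g)

variable {p : ℕ}

theorem Pts.cj_gen (h : Pts p D) (H : Subgroup G) (g : G) : gen D H ^ᶜ g = gen D (H ^ᶜ g) := by
  apply le_antisymm
  · rw [cj_le_iff, gen_le_iff]
    intro B hB hBH
    rw [← cj_le_iff]
    exact le_gen (h.inv B hB g) (cj_mono g hBH)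
  · rw [gen_le_iff]
    intro B hB hBH
    rw [le_cj_iff] at hBH ⊢
    exact le_gen (h.inv B hB g⁻¹) hBH

theorem Pts.normalizer_le_gen (h : Pts p D) (H : Subgroup G) : 𝐍(H) ≤ 𝐍(gen D H) :=
  normalizer_le_normalizer_of_cj fun g hg => by rw [h.cj_gen, hg]

theorem Pts.le_normalizer_gen (h : Pts p D) (H : Subgroup G) : H ≤ 𝐍(gen D H) :=
  le_normalizer.trans (h.normalizer_le_gen H)

theorem Pts.cj_Xc (h : Pts p D) (t g : G) : Xc D t ^ᶜ g = Xc D (g * t * g⁻¹) := by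
  unfold Xc
  rw [h.cj_gen, cj_centralizer_singleton]

theorem Pts.cj_Yq (h : Pts p D) (X : Subgroup G) (g : G) : Yq D X ^ᶜ g = Yq D (X ^ᶜ g) := by
  unfold Yq
  rw [h.cj_gen, cj_normalizer, cj_commutator]

theorem Pts.cent_le_normalizer_Xc (h : Pts p D) (t : G) : centralizer {t} ≤ 𝐍(Xc D t) :=
  h.le_normalizer_gen _

theorem Pts.normalizer_le_Yq (h : Pts p D) (X : Subgroup G) : 𝐍(X) ≤ 𝐍(Yq D X) :=
  (normalizer_le_comm X).trans (h.le_normalizer_gen _)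

theorem Pts.sub_cj (h : Pts p D) {X : Subgroup G} (hX : Sub D X) (g : G) : Sub D (X ^ᶜ g) := by
  obtain ⟨A, hA, hAX⟩ := hX.pt
  refine ⟨fun e => hX.ne_top (cj_eq_top_iff.1 e), ?_, _, h.inv A hA g, cj_mono g hAX⟩
  rw [← h.cj_gen, hX.gen_eq]

theorem Pts.blk_cj (h : Pts p D) {B : Subgroup G} (hB : Blk D B) (g : G) : Blk D (B ^ᶜ g) := by
  refine ⟨h.sub_cj hB.sub g, ?_, fun Y hY hBY => ?_⟩
  · rw [← cj_W]
    exact fun e => hB.w (cj_eq_bot_iff.1 e)
  · rw [← hB.max _ (h.sub_cj hY g⁻¹) (cj_le_iff.1 hBY), cj_inv_cj]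

theorem Pts.plus_cj (h : Pts p D) {t : G} (ht : Plus D t) (g : G) : Plus D (g * t * g⁻¹) := by
  obtain ⟨A, hA, hAt⟩ := ht.pt
  refine ⟨?_, _, h.inv A hA g, ?_⟩
  · rw [← ht.ord]
    exact (MulAut.conj g).orderOf_eq t
  · rw [← cj_centralizer_singleton]
    exact cj_mono g hAt

theorem Pts.ne_bot (h : Pts p D) {A : Subgroup G} (hA : A ∈ D) : A ≠ ⊥ := by
  intro e
  have := h.card A hA
  rw [e, card_bot] at this
  exact h.prime.one_lt.ne this

theorem Pts.isPGroup (h : Pts p D) {A : Subgroup G} (hA : A ∈ D) : IsPGroup p A :=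
  IsPGroup.of_card (n := 1) (by rw [h.card A hA, pow_one])

theorem Pts.isCyclic (h : Pts p D) {A : Subgroup G} (hA : A ∈ D) : IsCyclic A :=
  haveI : Fact p.Prime := ⟨h.prime⟩
  isCyclic_of_prime_card (h.card A hA)

theorem Pts.le_cent_self (h : Pts p D) {A : Subgroup G} (hA : A ∈ D) : A ≤ 𝐂(A) := by
  haveI := h.isCyclic hA
  intro a ha
  rw [mem_centralizer_iff_commute]
  intro b hb
  exact congrArg Subtype.val (mul_comm' (⟨b, hb⟩ : A) ⟨a, ha⟩)

theorem Pts.isSolvable (h : Pts p D) {A : Subgroup G} (hA : A ∈ D) : Group.IsSolvable A := by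
  haveI := h.isCyclic hA
  exact H2.isSolvable_of_isMulCommutative inferInstance

/-- a point is generated by each of its nontrivial elements -/
theorem Pts.eq_zpowers (h : Pts p D) {A : Subgroup G} (hA : A ∈ D) {a : G} (ha : a ∈ A) (h1 : a ≠ 1) :
    zpowers a = A := by
  haveI : Fact p.Prime := ⟨h.prime⟩
  haveI : Finite A := Nat.finite_of_card_ne_zero (by rw [h.card A hA]; exact h.prime.ne_zero)
  have hle : zpowers a ≤ A := zpowers_le.2 ha
  have hd : Nat.card (zpowers a) ∣ p := h.card A hA ▸ card_dvd_of_le hle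
  rcases (Nat.dvd_prime h.prime).1 hd with e | e
  · exact absurd (zpowers_eq_bot.1 (card_eq_one.1 e)) h1
  · exact eq_of_le_of_card_ge hle (by rw [e, h.card A hA])

/-- a subgroup meeting a point nontrivially contains it -/
theorem Pts.le_of_inf_ne_bot (h : Pts p D) {A H : Subgroup G} (hA : A ∈ D) (hne : A ⊓ H ≠ ⊥) : A ≤ H := by
  obtain ⟨⟨a, ha⟩, h1⟩ := (ne_bot_iff_exists_ne_one).1 hne
  rw [← h.eq_zpowers hA ha.1 (fun e => h1 (Subtype.ext e))]
  exact zpowers_le.2 ha.2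

theorem Pts.eq_of_le (h : Pts p D) {A B : Subgroup G} (hA : A ∈ D) (hB : B ∈ D) (hAB : A ≤ B) : A = B :=
  le_antisymm hAB (h.le_of_inf_ne_bot hB (by rw [inf_eq_right.2 hAB]; exact h.ne_bot hA))

theorem Pts.exists_gen (h : Pts p D) {A : Subgroup G} (hA : A ∈ D) : ∃ a ∈ A, a ≠ 1 ∧ zpowers a = A := by
  obtain ⟨⟨a, ha⟩, h1⟩ := (ne_bot_iff_exists_ne_one).1 (h.ne_bot hA)
  exact ⟨a, ha, fun e => h1 (Subtype.ext e), h.eq_zpowers hA ha (fun e => h1 (Subtype.ext e))⟩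

theorem Pts.comm_le_gen (h : Pts p D) {A T H : Subgroup G} (hA : A ∈ D) (hAH : A ≤ H) (hTH : T ≤ H) :
    ⁅T, A⁆ ≤ gen D H :=
  (commutator_mono le_rfl (le_gen hA hAH)).trans
    (commutator_le_right_of_le_normalizer (hTH.trans (h.le_normalizer_gen H)))

theorem Geo.sub_pair {q : ℕ} (h : Geo p q D) {A B : Subgroup G} (hA : A ∈ D) (hB : B ∈ D) : Sub D (A ⊔ B) :=
  ⟨h.pair A hA B hB, gen_pair hA hB, A, hA, le_sup_left⟩

theorem Rad.center_eq_bot (h : Rad G) : center G = ⊥ :=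
  h _ inferInstance (H2.isSolvable_of_isMulCommutative inferInstance)

theorem Rad.not_mem_center (h : Rad G) {z : G} (hz : z ≠ 1) : z ∉ center G := by
  rw [h.center_eq_bot]
  exact hz

theorem Plus.ne_one {t : G} (ht : Plus D t) : t ≠ 1 := by
  intro e
  have := ht.ord
  rw [e, orderOf_one] at this
  omega

theorem Plus.mul_self {t : G} (ht : Plus D t) : t * t = 1 := by
  have := pow_orderOf_eq_one t
  rwa [ht.ord, pow_two] at this

theorem Plus.sub (hR : Rad G) {t : G} (ht : Plus D t) : Sub D (Xc D t) := by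
  obtain ⟨A, hA, hAt⟩ := ht.pt
  exact sub_gen (centralizer_ne_top (hR.not_mem_center ht.ne_one)) hA hAt

theorem HC.subI {Y A : Subgroup G} {z : G} (c : HC D Y A z) : Sub D (II D Y z) :=
  sub_gen (fun e => c.sub.ne_top (top_le_iff.1 (e.symm.le.trans inf_le_left))) c.pt (le_inf c.AY c.Az)

theorem HC.subX {Y A : Subgroup G} {z : G} (c : HC D Y A z) : Sub D (Xc D z) :=
  sub_gen (centralizer_ne_top c.zc) c.pt c.Az

theorem HC.AI {Y A : Subgroup G} {z : G} (c : HC D Y A z) : A ≤ II D Y z :=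
  le_gen c.pt (le_inf c.AY c.Az)

theorem II_le (Y : Subgroup G) (z : G) : II D Y z ≤ Y := (gen_le _).trans inf_le_left

theorem II_le_Xc (Y : Subgroup G) (z : G) : II D Y z ≤ Xc D z := gen_mono inf_le_right

theorem HC.zP {Y A : Subgroup G} {z : G} (c : HC D Y A z) : z ∈ PP D Y z := ⟨c.zW, c.zN⟩

theorem PP_le_cent (Y : Subgroup G) (z : G) : PP D Y z ≤ 𝐂(II D Y z) :=
  inf_le_left.trans ((W_le_cent _).trans (centralizer_anti (II_le_Xc Y z)))

end gen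

end H42F
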