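import Mathlib
import Cfsg.Agent.Base
import Cfsg.Agent.Lib.FSet.Defs

set_option autoImplicit false
set_option linter.unusedSectionVars false

namespace H42F

open Subgroup H69
open scoped commutatorElement

variable {G : Type*} [Group G] [Finite G] {D : Set (Subgroup G)} {p q : ℕ}

/-- a point centralizes every `p`-subgroup containing it -/
theorem A0_cent (h : Pts p D)
    (one : ∀ A ∈ D, ∀ B ∈ D, IsPGroup p (A ⊔ B : Subgroup G) → A = B)
    {B S : Subgroup G} (hB : B ∈ D) (hS : IsPGroup p S) (hBS : B ≤ S) : B ≤ 𝐂(S) := by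
  have : Fact p.Prime := ⟨h.prime⟩
  have hn : S ≤ 𝐍(B) := by
    intro s hs
    rw [← cj_eq_self_iff]
    exact one _ (h.inv B hB s) _ hB (hS.to_le (sup_le (cj_le_of_mem hBS hs) hBS))
  exact h.le_of_inf_ne_bot hB (inf_centralizer_ne_bot (h.isPGroup hB) hS hn (h.ne_bot hB))

theorem A0_top (h : Pts p D)
    (one : ∀ A ∈ D, ∀ B ∈ D, IsPGroup p (A ⊔ B : Subgroup G) → A = B)
    (hs : Group.IsSolvable G) (top : ∀ L : Subgroup G, (∀ B ∈ D, B ≤ L) → L = ⊤)
    {A : Subgroup G} (hA : A ∈ D) : Cfsg.pPrimeCore p G ⊔ A = ⊤ := by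
  have : Fact p.Prime := ⟨h.prime⟩
  set K := Cfsg.pPrimeCore p G with hK
  set f := QuotientGroup.mk' K with hf
  set O := Cfsg.pCore p (G ⧸ K) with hO
  have hfs : Function.Surjective f := QuotientGroup.mk'_surjective K
  have hCO : 𝐂(O) ≤ O := H1.centralizer_pCore_le_of_isSolvable H1.pPrimeCore_quotient_pPrimeCore
  have hOS : ∀ S : Subgroup G, IsSylowIn p S ⊤ → O ≤ S.map f := by
    intro S hS
    have h1 := hS.map f
    rw [map_top_of_surjective f hfs] at h1
    exact h1.le_of_le_normalizer H1.isPGroup_pCore le_top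
      (le_top.trans (normal_iff_top_le_normalizer.1 inferInstance))
  have hcS : ∀ B ∈ D, ∀ S : Subgroup G, IsSylowIn p S ⊤ → B ≤ S → B.map f ≤ 𝐂(O) := by
    intro B hB S hS hBS
    refine le_trans ?_ (centralizer_anti (hOS S hS))
    apply le_centralizer_of_commutator_eq_bot
    rw [← map_commutator, commutator_eq_bot_of_le_centralizer (A0_cent h one hB hS.isP hBS), Subgroup.map_bot]
  have hOtop : O.comap f = ⊤ := by
    apply top
    intro B hB
    obtain ⟨S, hS, hBS⟩ := exists_isSylowIn_le (h.isPGroup hB) (le_top : B ≤ ⊤)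
    exact map_le_iff_le_comap.1 ((hcS B hB S hS hBS).trans hCO)
  have hO' : ∀ y : G, f y ∈ O := fun y => by
    have : y ∈ O.comap f := hOtop ▸ mem_top y
    exact this
  obtain ⟨S, hS, hAS⟩ := exists_isSylowIn_le (h.isPGroup hA) (le_top : A ≤ ⊤)
  have hAc : O ≤ 𝐂(A.map f) := le_centralizer_iff.1 (hcS A hA S hS hAS)
  apply top
  intro B hB
  obtain ⟨g, -, hg⟩ := hS.exists_cj_le (h.isPGroup hB) le_top
  have e : B ^ᶜ g = A := one _ (h.inv B hB g) _ hA (hS.isP.to_le (sup_le hg hAS))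
  have e2 : B.map f = A.map f := by
    rw [cj_eq_iff.1 e, map_cj]
    exact cj_eq_of_mem_centralizer (hAc (hO' _))
  have e3 : B ≤ (A.map f).comap f := map_le_iff_le_comap.1 e2.le
  rw [comap_map_eq, hf, QuotientGroup.ker_mk', sup_comm] at e3
  exact e3

theorem Pts.sup_pPrime (h : Pts p D)
    (one : ∀ A ∈ D, ∀ B ∈ D, IsPGroup p (A ⊔ B : Subgroup G) → A = B)
    {X A : Subgroup G} (hs : Group.IsSolvable X) (hX : gen D X = X) (hA : A ∈ D) (hAX : A ≤ X) :
    ∃ K : Subgroup G, K ≤ X ∧ X ≤ 𝐍(K) ∧ (Nat.card K).Coprime p ∧ X ≤ K ⊔ A := by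
  let D' : Set (Subgroup X) := {B | B.map X.subtype ∈ D}
  have h' : Pts p D' := by
    refine ⟨h.prime, h.odd, fun B hB => ?_, fun B hB g => ?_⟩
    · rw [← card_map_subtype]; exact h.card _ hB
    · show (B ^ᶜ g).map X.subtype ∈ D
      rw [map_subtype_cj]
      exact h.inv _ hB _
  have one' : ∀ A ∈ D', ∀ B ∈ D', IsPGroup p (A ⊔ B : Subgroup X) → A = B := by
    intro A hA B hB hp
    rw [← H69.map_subtype_inj]
    apply one _ hA _ hB
    rw [← Subgroup.map_sup]
    exact isPGroup_map_subtype_iff.2 hp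
  have hsub : ∀ B ∈ D, B ≤ X → B.subgroupOf X ∈ D' := by
    intro B hB hBX
    show (B.subgroupOf X).map X.subtype ∈ D
    rwa [subgroupOf_map_subtype, inf_eq_left.2 hBX]
  have top' : ∀ L : Subgroup X, (∀ B ∈ D', B ≤ L) → L = ⊤ := by
    intro L hL
    rw [← map_subtype_eq_self_iff]
    refine le_antisymm (map_subtype_le _) (hX.symm.le.trans (gen_le_iff.2 fun B hB hBX => ?_))
    exact (subgroupOf_le_iff hBX).1 (hL _ (hsub B hB hBX))
  have key := A0_top h' one' hs top' (hsub A hA hAX)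
  refine ⟨(Cfsg.pPrimeCore p X).map X.subtype, map_subtype_le _,
    le_normalizer.trans (H1.normalizer_le_normalizer_map_subtype_pPrimeCore X),
    H1.coprime_card_map_subtype_pPrimeCore X, ?_⟩
  have := congrArg (Subgroup.map X.subtype) key
  rw [Subgroup.map_sup, subgroupOf_map_subtype, inf_eq_left.2 hAX, map_subtype_top] at this
  exact this.ge

end H42F
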