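import Mathlib
import Cfsg.Agent.Base
import Cfsg.Agent.Lib.FSet.Defs

set_option autoImplicit false
set_option linter.unusedSectionVars false

namespace H42F.A1a

open Subgroup H69
open scoped commutatorElement

variable {G : Type*} [Group G] [Finite G] {D : Set (Subgroup G)} {p : ℕ}

theorem cent {A P : Subgroup G} (hn : A ≤ 𝐍(P)) (hd : A ⊓ P = ⊥) {x : G} (hx : x ∈ P)
    (hN : x ∈ 𝐍(A)) : x ∈ 𝐂(A) := fun a ha => by
  have : x * a * x⁻¹ * a⁻¹ ∈ A ⊓ P := mem_inf.2 ⟨mul_mem (conj_mem_of_mem_normalizer hN ha) (inv_mem ha), by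
    rw [mul_assoc, mul_assoc, ← mul_assoc a]
    exact mul_mem hx (conj_mem_of_mem_normalizer (hn ha) (inv_mem hx))⟩
  rw [hd, mem_bot, mul_inv_eq_one, mul_inv_eq_iff_eq_mul] at this
  exact this.symm

theorem disj (h : Pts p D) {A K : Subgroup G} (hA : A ∈ D) (hK : (Nat.card K).Coprime p) :
    A ⊓ K = ⊥ := H2.inf_eq_bot_of_coprime_card (by rw [h.card A hA]; exact hK.symm)

theorem syl (h : Pts p D) {A K X : Subgroup G} (hA : A ∈ D) (hn : A ≤ 𝐍(K))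
    (hK : (Nat.card K).Coprime p) (hAX : A ≤ X) (hX : X ≤ K ⊔ A) : IsSylowIn p A X := by
  have : Fact p.Prime := ⟨h.prime⟩
  refine ⟨hAX, h.isPGroup hA, fun R h1 h2 h3 => ?_⟩
  obtain ⟨k, hk⟩ := h3.exists_card_eq
  have e := dedekind_right hn h1
  rwa [H2.inf_eq_bot_of_coprime_card (A := K) (by rw [hk]; exact hK.pow_right k), sup_bot_eq,
    inf_eq_right.2 (h2.trans (hX.trans (sup_comm K A).le))] at e

theorem step (h : Pts p D) {A P : Subgroup G} (hA : A ∈ D) (hn : A ≤ 𝐍(P))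
    (hK : (Nat.card P).Coprime p) {r : ℕ} (hr : r.Prime) (hP : IsPGroup r P) (nc : ¬ P ≤ 𝐂(A)) :
    ∃ B ∈ D, A ≠ B ∧ ∃ a, Nat.card (A ⊔ B : Subgroup G) = r ^ (a + 1) * p := by
  have : Fact r.Prime := ⟨hr⟩
  obtain ⟨x, hx, xc⟩ := SetLike.not_le_iff_exists.1 nc
  have hd := disj h hA hK
  have ne : A ≠ A ^ᶜ x := fun e => xc (cent hn hd hx (cj_eq_self_iff.1 e.symm))
  refine ⟨_, h.inv A hA x, ne, ?_⟩
  have hJ : A ⊔ A ^ᶜ x ≤ A ⊔ P := sup_le le_sup_left fun y hy => by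
    obtain ⟨a, ha, rfl⟩ := mem_cj'.1 hy
    exact mul_mem (mul_mem (mem_sup_right hx) (mem_sup_left ha)) (mem_sup_right (inv_mem hx))
  have e := dedekind_right (C := A ⊔ A ^ᶜ x) hn le_sup_left
  rw [inf_eq_right.2 hJ] at e
  obtain ⟨k, hk⟩ := (hP.to_inf_left : IsPGroup r (P ⊓ (A ⊔ A ^ᶜ x) : Subgroup G)).exists_card_eq
  obtain _ | k := k
  · rw [card_eq_one.1 hk, sup_bot_eq] at e
    exact (ne (h.eq_of_le (h.inv A hA x) hA (le_sup_right.trans e.le)).symm).elim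
  refine ⟨k, ?_⟩
  rw [e, sup_comm, H2.card_sup_of_le_normalizer
    (H69.le_normalizer_inf hn (H69.le_normalizer_of_le le_sup_left))
    (le_bot_iff.1 (hd ▸ inf_le_inf_left A inf_le_left)), hk, h.card A hA]

end H42F.A1a
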