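import Mathlib
import Cfsg.Agent.Base
import Cfsg.Agent.Lib.FSet.Defs
import Cfsg.Agent.Lib.FSet.A1a
import Cfsg.Agent.Lib.FSet.A0
import Cfsg.Agent.S0205

set_option autoImplicit false
set_option linter.unusedSectionVars false

namespace H42F

open Subgroup H69
open scoped commutatorElement

variable {G : Type*} [Group G] [Finite G] {D : Set (Subgroup G)} {p q : ℕ} {F : Type*} [Group F] [Finite F]

theorem exists_q (h : Pts p D) (top : sSup D = ⊤) (hG : ¬ IsMulCommutative G) (hF : Odd (Nat.card F))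
    (iso : ∀ A ∈ D, ∀ B ∈ D, A ≠ B → Nonempty (↥(A ⊔ B) ≃* F)) : ∃ q : ℕ, FS p q D F := by
  have : Fact p.Prime := ⟨h.prime⟩
  obtain ⟨A, hA, B, hB, hAB⟩ : ∃ A ∈ D, ∃ B ∈ D, ¬ A ≤ 𝐂(B) := by
    by_contra k
    push Not at k
    have k1 : (⊤ : Subgroup G) ≤ 𝐂((⊤ : Subgroup G)) := by
      nth_rw 1 [← top]
      exact sSup_le fun B hB => le_centralizer_iff.1 (top ▸ sSup_le fun A hA => k A hA B hB)
    exact hG ⟨⟨fun a b => k1 (mem_top b) a (mem_top a)⟩⟩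
  have ne : A ≠ B := fun e => hAB (e ▸ h.le_cent_self hA)
  obtain ⟨e⟩ := iso A hA B hB ne
  have nc : ∀ A' ∈ D, ∀ B' ∈ D, A' ≤ 𝐂(B') → A' = B' := fun A' hA' B' hB' k => by
    by_contra n
    obtain ⟨e'⟩ := iso A' hA' B' hB' n
    have k1 : A' ⊔ B' ≤ 𝐂(A' ⊔ B') := by
      rw [H69.centralizer_sup]
      exact le_inf (sup_le (h.le_cent_self hA') (le_centralizer_iff.1 k))
        (sup_le k (h.le_cent_self hB'))
    have k2 : ∀ x y : F, x * y = y * x := fun x y => e'.symm.injective (by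
      rw [map_mul, map_mul]; exact Subtype.ext (k1 (e'.symm y).2 _ (e'.symm x).2))
    exact hAB fun a ha b hb => congrArg Subtype.val (e.injective
      (a₁ := ⟨b, mem_sup_right hb⟩ * ⟨a, mem_sup_left ha⟩)
      (a₂ := ⟨a, mem_sup_left ha⟩ * ⟨b, mem_sup_right hb⟩) (by rw [map_mul, map_mul, k2]))
  have nn : ∀ A' ∈ D, ∀ B' ∈ D, A' ≤ 𝐍(B') → A' = B' := fun A' hA' B' hB' k =>
    (nc B' hB' A' hA' (h.le_of_inf_ne_bot hB'
      (inf_centralizer_ne_bot (h.isPGroup hB') (h.isPGroup hA') k (h.ne_bot hB')))).symm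
  have one : ∀ A ∈ D, ∀ B ∈ D, IsPGroup p (A ⊔ B : Subgroup G) → A = B := fun A hA B hB hp => by
    by_contra n
    obtain ⟨x, hx, xn⟩ := SetLike.exists_of_lt (lt_inf_normalizer_of_lt hp
      (R := (A ⊔ B) ⊓ 𝐍(A)) (lt_of_le_of_ne inf_le_left fun e =>
        n (nn B hB A hA (le_sup_right.trans (e.ge.trans inf_le_right))).symm))
    exact xn ⟨hx.1, cj_eq_self_iff.1 (nn _ (h.inv A hA x) A hA
      ((cj_le_of_mem_normalizer (le_inf le_sup_left le_normalizer) hx.2).trans inf_le_right))⟩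
  have sF := Cfsg.Agent.S0205.result hF
  obtain ⟨K, h1, h2, h3, h4⟩ := h.sup_pPrime one (X := A ⊔ B)
    (Group.isSolvable_of_isSolvable_injective (f := e.toMonoidHom) e.injective) (gen_pair hA hB) hA
    le_sup_left
  have hn : A ≤ 𝐍(K) := le_sup_left.trans h2
  have h5 : ¬ K ≤ 𝐂(A) := fun k =>
    ne (nc B hB A hA (le_sup_right.trans (h4.trans (sup_le k (h.le_cent_self hA))))).symm
  obtain ⟨r, hr, P, hP, hAP, nP⟩ : ∃ r : ℕ, r.Prime ∧ ∃ P, H68.SylowIn r P K ∧ A ≤ 𝐍(P) ∧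
      ¬ P ≤ 𝐂(A) := by
    by_contra k
    push Not at k
    exact h5 (H2.le_of_forall_invariant_sylowIn_le hn (by rw [h.card A hA]; exact h3.symm)
      (Or.inl (h.isSolvable hA)) fun r hr P hP hAP => k r hr.out P hP hAP)
  have cP : (Nat.card P).Coprime p := h3.coprime_dvd_left (card_dvd_of_le hP.le)
  obtain ⟨B', hB', ne', a, ha⟩ := A1a.step h hA hAP cP hr hP.isPGroup nP
  obtain ⟨e'⟩ := iso A hA B' hB' ne'
  rw [Nat.card_congr e'.toEquiv] at ha
  refine ⟨r, h, hr, fun e2 => ?_, fun e2 => nP ?_, ⟨_, ha⟩, sF, iso⟩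
  · rw [ha, e2, pow_succ] at hF
    exact Nat.not_odd_iff_even.2 ((even_two.mul_left _).mul_right _) hF
  · subst e2
    obtain ⟨k, hk⟩ := hP.isPGroup.exists_card_eq
    rw [card_eq_one.1 (Nat.Coprime.eq_one_of_dvd (cP.pow_right k) hk.dvd)]
    exact bot_le

end H42F
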