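import Mathlib
import Cfsg.Agent.Base
import Cfsg.Agent.Lib.FSet.Defs
import Cfsg.Agent.Lib.FSet.A1a
import Cfsg.Agent.Lib.Core.Permutable
import Cfsg.Agent.Lib.FSet.A0

set_option autoImplicit false
set_option linter.unusedSectionVars false

namespace H42F

open Subgroup H69
open scoped commutatorElement

variable {G : Type*} [Group G] [Finite G] {D : Set (Subgroup G)} {p q : ℕ} {F : Type*} [Group F] [Finite F]

theorem FS.one (h : FS p q D F) : ∀ A ∈ D, ∀ B ∈ D, IsPGroup p (A ⊔ B : Subgroup G) → A = B := by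
  intro A hA B hB hp
  have : Fact p.Prime := ⟨h.prime⟩
  by_contra n
  obtain ⟨e⟩ := h.iso A hA B hB n
  obtain ⟨k, hk⟩ := hp.exists_card_eq
  obtain ⟨a, ha⟩ := h.cardF
  rw [← Nat.card_congr e.toEquiv] at ha
  obtain _ | a := a
  · rw [pow_zero, one_mul, ← h.card B hB] at ha
    exact n (h.toPts.eq_of_le hA hB (le_sup_left.trans (eq_of_le_of_card_ge le_sup_right ha.le).ge))
  · exact h.ne ((Nat.prime_dvd_prime_iff_eq h.qprime h.prime).1 (h.qprime.dvd_of_dvd_pow (n := k)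
      (by rw [← hk, ha, pow_succ]; exact (dvd_mul_left _ _).mul_right _))).symm

theorem FS.comm_isPGroup (h : FS p q D F) {A K : Subgroup G} (hA : A ∈ D) (hn : A ≤ 𝐍(K))
    (hK : (Nat.card K).Coprime p) : IsPGroup q (⁅K, A⁆ : Subgroup G) := by
  have : Fact q.Prime := ⟨h.qprime⟩
  have cop : (Nat.card A).Coprime (Nat.card K) := by rw [h.card A hA]; exact hK.symm
  have sol := h.toPts.isSolvable hA
  obtain ⟨P, hP, hAP⟩ := H2.exists_invariant_sylowIn hn cop (Or.inl sol) q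
  have ci : (P.relIndex K).Coprime ((K ⊓ 𝐂(A)).relIndex K) := by
    refine Nat.coprime_of_dvd fun r hr h1 h2 => ?_
    have : Fact r.Prime := ⟨hr⟩
    by_cases e : r = q
    · subst e; exact hP.not_dvd_relIndex h1
    obtain ⟨R, hR, hAR⟩ := H2.exists_invariant_sylowIn hn cop (Or.inl sol) r
    refine hR.not_dvd_relIndex (h2.trans (relIndex_dvd_of_le_left K (le_inf hR.le ?_)))
    by_contra nc
    obtain ⟨B, hB, ne, a, ha⟩ := A1a.step h.toPts hA hAR
      (hK.coprime_dvd_left (card_dvd_of_le hR.le)) hr hR.isPGroup nc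
    obtain ⟨f⟩ := h.iso A hA B hB ne
    obtain ⟨b, hb⟩ := h.cardF
    rw [Nat.card_congr f.toEquiv, hb] at ha
    exact e ((Nat.prime_dvd_prime_iff_eq hr h.qprime).1 (hr.dvd_of_dvd_pow (n := b) (by
      rw [Nat.eq_of_mul_eq_mul_right h.prime.pos ha, pow_succ]; exact dvd_mul_left _ _)))
  refine hP.isPGroup.to_le (commutator_le.2 fun k hk a ha => ?_)
  obtain ⟨x, hx, c, hc, rfl⟩ := H1.exists_mul_eq_of_coprime_relIndex hP.le inf_le_left ci hk
  have e : ⁅x * c, a⁆ = x * (a * x⁻¹ * a⁻¹) := by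
    rw [commutatorElement_def, mul_assoc x, ← hc.2 a ha]; group
  rw [e]
  exact mul_mem hx (conj_mem_of_mem_normalizer (hAP ha) (inv_mem hx))

theorem FS.loc12 (h : FS p q D F) {X A : Subgroup G} (hs : Group.IsSolvable X) (hX : gen D X = X) (hA : A ∈ D)
    (hAX : A ≤ X) : IsPGroup q (⁅X, X⁆ : Subgroup G) ∧ X ≤ ⁅X, X⁆ ⊔ A ∧ ⁅⁅X, X⁆, A⁆ = ⁅X, X⁆ := by
  have : Fact p.Prime := ⟨h.prime⟩
  obtain ⟨K, h1, h2, h3, h4⟩ := h.toPts.sup_pPrime h.one hs hX hA hAX
  have hn : A ≤ 𝐍(K) := hAX.trans h2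
  have syl := A1a.syl h.toPts hA hn h3 hAX h4
  have h5 : X ≤ ncl A K := hX.symm.le.trans (gen_le_iff.2 fun B hB hBX => by
    obtain ⟨g, hg, k⟩ := syl.exists_le_cj (h.toPts.isPGroup hB) hBX
    exact k.trans (cj_le_of_mem_normalizer (le_ncl A K)
      (sup_le (le_normalizer_ncl A K) (H69.le_normalizer_of_le (le_ncl A K)) (h4 hg))))
  have h6 : K = ⁅K, A⁆ := by
    have e := dedekind_left (A := ⁅K, A⁆) (B := A) (C := K) (normalizer_commutator_ge_right K A)
      (commutator_le_left_of_le_normalizer hn)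
    rwa [A1a.disj h.toPts hA h3, sup_bot_eq, inf_eq_right.2 (h1.trans (h5.trans (by
      rw [ncl_eq_sup_commutator, sup_comm, commutator_comm])))] at e
  have h7 : ⁅X, X⁆ = K := le_antisymm ((commutator_mono h4 h4).trans
    (commutator_sup_le_left le_normalizer hn
      (commutator_le_left_of_le_normalizer (sup_le le_normalizer hn))
      (commutator_sup_le_right le_normalizer hn (commutator_le_right_of_le_normalizer hn)
        (by rw [commutator_eq_bot_of_le_centralizer (h.toPts.le_cent_self hA)]; exact bot_le))))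
    (h6.le.trans (commutator_mono h1 hAX))
  rw [h7]
  exact ⟨h6 ▸ h.comm_isPGroup hA hn h3, h4, h6.symm⟩

end H42F
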