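import Mathlib
import Cfsg.Agent.Base
import Cfsg.Agent.Lib.FSet.Defs
import Cfsg.Agent.Lib.FSet.A2

set_option autoImplicit false
set_option linter.unusedSectionVars false

namespace H42F

open Subgroup H69
open scoped commutatorElement

variable {G : Type*} [Group G] [Finite G] {D : Set (Subgroup G)} {p q : ℕ} {F : Type*} [Group F] [Finite F]

theorem A3.comm_of {J : Subgroup G} (e : J ≃* F) (h : IsMulCommutative (commutator F)) :
    IsMulCommutative (⁅J, J⁆ : Subgroup G) := by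
  have m : ∀ x : J, (x : G) ∈ ⁅J, J⁆ → e x ∈ commutator F := fun x hx => by
    rw [← Subgroup.map_subtype_commutator] at hx
    exact commutator_mono le_top le_top (Subgroup.map_commutator ⊤ ⊤ e.toMonoidHom ▸
      mem_map_of_mem e.toMonoidHom ((mem_map_iff_mem J.subtype_injective).1 hx))
  refine ⟨⟨fun x y => Subtype.ext ?_⟩⟩
  have := congrArg Subtype.val (h.1.1 ⟨_, m ⟨x, comm_le J x.2⟩ x.2⟩ ⟨_, m ⟨y, comm_le J y.2⟩ y.2⟩)
  change e _ * e _ = e _ * e _ at this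
  rw [← map_mul, ← map_mul] at this
  exact congrArg (fun z : J => (z : G)) (e.injective this)

theorem A3.step (h : FS p q D F) (hF : IsMulCommutative (commutator F)) {X A : Subgroup G}
    (hs : Group.IsSolvable X) (hA : A ∈ D) (hAX : A ≤ X) (hd : A ⊓ ⁅X, X⁆ = ⊥) {a x : G} (ha : a ∈ A)
    (h2 : zpowers (a * a) = A) (hx : x ∈ ⁅X, X⁆) :
    ∃ r ∈ ⁅X, X⁆, a * (x * a * x⁻¹) = r * (a * a) * r⁻¹ := by
  have m : x * a * x⁻¹ * a⁻¹ ∈ ⁅X, X⁆ := commutator_mem_commutator (comm_le X hx) (hAX ha)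
  by_cases e : A = A ^ᶜ x
  · have : x * a * x⁻¹ * a⁻¹ ∈ A ⊓ ⁅X, X⁆ := ⟨A.mul_mem (e.ge (cj_mem x ha)) (inv_mem ha), m⟩
    rw [hd, mem_bot, mul_inv_eq_one] at this
    exact ⟨1, one_mem _, by rw [this, one_mul, inv_one, mul_one]⟩
  have hB := h.inv A hA x
  obtain ⟨f⟩ := h.iso A hA _ hB e
  have JX : A ⊔ A ^ᶜ x ≤ X := sup_le hAX (cj_le_of_mem hAX (comm_le X hx))
  have sJ : Group.IsSolvable (A ⊔ A ^ᶜ x : Subgroup G) :=
    Group.isSolvable_of_isSolvable_injective (inclusion_injective JX)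
  obtain ⟨k1, k2, k3⟩ := h.loc12 sJ (gen_pair hA hB) hA le_sup_left
  have nR : A ≤ _ := le_sup_left.trans (le_normalizer_comm (A ⊔ A ^ᶜ x))
  have RQ := commutator_mono JX JX
  have c := A3.comm_of f hF
  have mJ : x * a * x⁻¹ * a⁻¹ ∈ A ⊔ A ^ᶜ x :=
    mul_mem (mem_sup_right (cj_mem x ha)) (mem_sup_left (inv_mem ha))
  set R := ⁅A ⊔ A ^ᶜ x, A ⊔ A ^ᶜ x⁆ with hR
  have : Fact q.Prime := ⟨h.qprime⟩
  have z := H2.commutator_inf_centralizer_eq_bot c nR (by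
    obtain ⟨n, hn⟩ := IsPGroup.iff_card.1 k1
    rw [hn, h.card A hA]
    exact ((Nat.coprime_primes h.prime h.qprime).2 h.ne).pow_right n)
  rw [k3] at z
  have aa := nR (mul_mem ha ha)
  let g : R → R := fun r => ⟨r * (a * a) * (r : G)⁻¹ * (a * a)⁻¹, by
    rw [mul_assoc, mul_assoc, ← mul_assoc (a * a)]
    exact mul_mem r.2 (conj_mem_of_mem_normalizer aa (inv_mem r.2))⟩
  have gi : Function.Injective g := fun r r' e => by
    have e1 : (r : G) * (a * a) * (r : G)⁻¹ = r' * (a * a) * (r' : G)⁻¹ :=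
      mul_right_cancel (congrArg Subtype.val e)
    have : (r' : G)⁻¹ * r ∈ R ⊓ 𝐂(A) := ⟨R.mul_mem (inv_mem r'.2) r.2, by
      rw [← h2]
      refine le_centralizer_singleton_iff.1 (zpowers_le.2 (mem_centralizer_singleton_iff.2 ?_))
      calc a * a * ((r' : G)⁻¹ * r) = (r' : G)⁻¹ * (r' * (a * a) * (r' : G)⁻¹) * r := by group
        _ = _ := by rw [← e1]; group⟩
    rw [z, mem_bot, inv_mul_eq_one] at this
    exact Subtype.ext this.symm
  have mR : x * a * x⁻¹ * a⁻¹ ∈ R := by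
    have : x * a * x⁻¹ * a⁻¹ ∈ (R ⊔ A) ⊓ ⁅X, X⁆ := ⟨k2 mJ, m⟩
    rwa [dedekind_left nR RQ, hd, sup_bot_eq] at this
  obtain ⟨r, hr⟩ := Finite.surjective_of_injective gi ⟨_, conj_mem_of_mem_normalizer (nR ha) mR⟩
  refine ⟨r, RQ r.2, mul_right_cancel (b := (a * a)⁻¹) (Eq.trans ?_ (congrArg Subtype.val hr).symm)⟩
  change _ = a * (x * a * x⁻¹ * a⁻¹) * a⁻¹
  group

theorem FS.pa (h : FS p q D F) (hF : IsMulCommutative (commutator F)) {X A : Subgroup G} (hs : Group.IsSolvable X)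
    (hX : gen D X = X) (hA : A ∈ D) (hAX : A ≤ X) : ⁅X, X⁆ ⊓ 𝐂(A) = ⊥ := by
  obtain ⟨h1, -, h3⟩ := h.loc12 hs hX hA hAX
  have : Fact q.Prime := ⟨h.qprime⟩
  have : Fact p.Prime := ⟨h.prime⟩
  have hd : A ⊓ ⁅X, X⁆ = ⊥ := IsPGroup.disjoint_of_ne p q h.ne _ _ (h.toPts.isPGroup hA) h1 |>.eq_bot
  obtain ⟨a, ha, a1, za⟩ := h.toPts.exists_gen hA
  have h2 : zpowers (a * a) = A := h.toPts.eq_zpowers hA (mul_mem ha ha) fun e => by
    have o : orderOf a = p := by rw [← Nat.card_zpowers, za, h.card A hA]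
    rw [← pow_two, ← orderOf_dvd_iff_pow_eq_one, o] at e
    exact h.odd ((Nat.prime_dvd_prime_iff_eq h.prime Nat.prime_two).1 e)
  have st := fun x => A3.step h hF hs hA hAX hd ha h2 (x := x)
  have nQ : a ∈ _ := le_normalizer_comm X (hAX ha)
  set Q := ⁅X, X⁆ with hQ
  let S : Set G := {b | ∃ x ∈ Q, b = x * a * x⁻¹}
  have s1 : ∀ b ∈ S, ∀ c ∈ S, b * c ∈ (fun b => b * b) '' S := by
    rintro _ ⟨y, hy, rfl⟩ _ ⟨x, hx, rfl⟩
    obtain ⟨r, hr, e⟩ := st (y⁻¹ * x) (mul_mem (inv_mem hy) hx)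
    refine ⟨_, ⟨y * r, mul_mem hy hr, rfl⟩, ?_⟩
    calc _ = y * (r * (a * a) * r⁻¹) * y⁻¹ := by group
      _ = _ := by rw [← e]; group
  have aS : a ∈ S := ⟨1, one_mem _, by group⟩
  have s2 : (fun b => a * b) '' S = (fun b => b * b) '' S :=
    Set.eq_of_subset_of_ncard_le (by rintro _ ⟨b, hb, rfl⟩; exact s1 a aS b hb)
      (by rw [Set.ncard_image_of_injective _ (mul_right_injective a)]; exact Set.ncard_image_le)
  have s3 : ∀ b ∈ S, a * b * a⁻¹ ∈ S := by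
    rintro _ ⟨x, hx, rfl⟩
    exact ⟨_, conj_mem_of_mem_normalizer nQ hx, by group⟩
  let M : Submonoid G :=
    { carrier := {l | a * l ∈ S}
      one_mem' := by simpa using aS
      mul_mem' := fun {l m} hl hm => by
        obtain ⟨d, hd, e⟩ := s2.ge (s1 _ (s3 _ hl) _ hm)
        have : a * (l * m) = d := mul_left_cancel (a := a) (Eq.trans (by group) e.symm)
        exact show a * (l * m) ∈ S from this ▸ hd }
  let Λ : Subgroup G :=
    { M with
      inv_mem' := fun {l} hl => (Submonoid.powers_le.2 hl : Submonoid.powers l ≤ M)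
        (mem_powers_iff_mem_zpowers.2 (inv_mem (mem_zpowers l))) }
  have nΛ : a ∈ 𝐍(Λ) := mem_normalizer_of_cj_le fun x hx => by
    obtain ⟨l, hl, rfl⟩ := mem_cj'.1 hx
    have := s3 _ hl
    rwa [mul_assoc, mul_assoc, ← mul_assoc a l] at this
  have hΛ : Q ≤ Λ := by
    rw [← h3, Subgroup.commutator_comm, ← za, ← zpowers_inv, zpowers_eq_closure]
    refine H2.commutator_closure_le ?_ ?_
    · rintro _ rfl
      exact inv_mem nΛ
    · rintro _ rfl z hz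
      exact ⟨z, hz, by group⟩
  let f : Q → Q := fun x => ⟨a⁻¹ * x * a⁻¹⁻¹ * (x : G)⁻¹,
    mul_mem (conj_mem_of_mem_normalizer (inv_mem nQ) x.2) (inv_mem x.2)⟩
  have fs : Function.Surjective f := fun u => by
    obtain ⟨x, hx, e⟩ := hΛ u.2
    refine ⟨⟨x, hx⟩, Subtype.ext (mul_left_cancel (a := a) (Eq.trans ?_ e.symm))⟩
    change a * (a⁻¹ * x * a⁻¹⁻¹ * x⁻¹) = _
    group
  refine eq_bot_iff.2 fun c hc => congrArg Subtype.val
    (Finite.injective_iff_surjective.2 fs (a₁ := ⟨c, hc.1⟩) (a₂ := 1) (Subtype.ext ?_))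
  change a⁻¹ * c * a⁻¹⁻¹ * c⁻¹ = a⁻¹ * 1 * a⁻¹⁻¹ * 1⁻¹
  rw [inv_inv, mul_assoc _ c, ← hc.2 a ha]
  group

end H42F
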