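import Mathlib
import Cfsg.Agent.Base
import Cfsg.Agent.Lib.FSet.Defs
import Cfsg.Agent.Lib.FSet.A2

set_option autoImplicit false
set_option linter.unusedSectionVars false

namespace H42F

open Subgroup H69
open scoped commutatorElement

variable {G : Type*} [Group G] [Finite G] {D : Set (Subgroup G)} {p q : ℕ} {F : Type*} [Group F] [Finite F]

theorem A4.comm_of {J : Subgroup G} (e : J ≃* F) (h : ∀ x ∈ ⁅J, J⁆, ∀ y ∈ ⁅J, J⁆, x * y = y * x) :
    IsMulCommutative (commutator F) := by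
  have m : ∀ x ∈ commutator F, (e.symm x : G) ∈ ⁅J, J⁆ := fun x hx => by
    rw [← Subgroup.map_subtype_commutator]
    exact mem_map_of_mem J.subtype (commutator_mono le_top le_top
      (Subgroup.map_commutator ⊤ ⊤ e.symm.toMonoidHom ▸ mem_map_of_mem e.symm.toMonoidHom hx))
  exact ⟨⟨fun x y => Subtype.ext (e.symm.injective (Subtype.ext (by
    simpa using h _ (m _ x.2) _ (m _ y.2))))⟩⟩

theorem A4.ab (h : FS p q D F) (hF : ¬ IsMulCommutative (commutator F)) {A V : Subgroup G} (hA : A ∈ D)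
    (hV : V ≤ 𝐂(V)) (hn : A ≤ 𝐍(V)) (hd : V ⊓ A = ⊥) : A ≤ 𝐂(V) := fun a ha x hx => by
  by_cases e : A = A ^ᶜ x
  · have : x * a * x⁻¹ * a⁻¹ ∈ V ⊓ A := ⟨by
      rw [mul_assoc, mul_assoc, ← mul_assoc a]
      exact mul_mem hx (conj_mem_of_mem_normalizer (hn ha) (inv_mem hx)),
      A.mul_mem (e.ge (cj_mem x ha)) (inv_mem ha)⟩
    rwa [hd, mem_bot, mul_inv_eq_one, mul_inv_eq_iff_eq_mul] at this
  obtain ⟨f⟩ := h.iso A hA _ (h.inv A hA x) e
  have h1 : A ⊔ A ^ᶜ x ≤ V ⊔ A := sup_le le_sup_right (cj_le_of_mem le_sup_right (mem_sup_left hx))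
  have h2 : ⁅V ⊔ A, V ⊔ A⁆ ≤ V := commutator_sup_le_left le_normalizer hn
    (commutator_le_left_of_le_normalizer (sup_le le_normalizer hn))
    (commutator_sup_le_right le_normalizer hn (commutator_le_right_of_le_normalizer hn)
      ((commutator_eq_bot_of_le_centralizer (h.toPts.le_cent_self hA)).trans_le bot_le))
  have h3 := (commutator_mono h1 h1).trans h2
  exact absurd (A4.comm_of f fun u hu v hv => hV (h3 hv) u (h3 hu)) hF

theorem FS.pb (h : FS p q D F) (hF : ¬ IsMulCommutative (commutator F)) {X A : Subgroup G}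
    (hs : Group.IsSolvable X) (hX : gen D X = X) (hA : A ∈ D) (hAX : A ≤ X) :
    ⁅X, X⁆ ⊓ 𝐂(A) ≤ 𝐂(X) ∧ ⁅⁅X, X⁆, ⁅X, X⁆⁆ ≤ 𝐂(X) ∧ ⁅X, X⁆ ⊓ 𝐂(⁅X, X⁆) ≤ 𝐂(X) := by
  obtain ⟨h1, h2, h3⟩ := h.loc12 hs hX hA hAX
  have nQ := le_normalizer_comm X
  have QX := comm_le X
  set Q := ⁅X, X⁆ with hQ
  have : Fact q.Prime := ⟨h.qprime⟩
  have : Fact p.Prime := ⟨h.prime⟩
  have hd : Q ⊓ A = ⊥ := IsPGroup.disjoint_of_ne q p h.ne.symm _ _ h1 (h.toPts.isPGroup hA) |>.eq_bot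
  have key : ∀ V ≤ Q, V ≤ 𝐂(V) → X ≤ 𝐍(V) → V ≤ 𝐂(X) := fun V hV c n => by
    have a := A4.ab h hF hA c (hAX.trans n) (le_bot_iff.1 ((inf_le_inf_right A hV).trans hd.le))
    exact le_centralizer_iff.1 (h2.trans (sup_le
      (h3 ▸ H2.commutator_le_centralizer_of_normalizes (QX.trans n) a) a))
  have k2 : ⁅Q, Q⁆ ≤ 𝐂(X) := by
    by_contra n
    obtain ⟨L, ⟨l1, l2, l3⟩, hmin⟩ := (wellFounded_lt (α := Subgroup G)).has_min
      {L | L ≤ ⁅Q, Q⁆ ∧ X ≤ 𝐍(L) ∧ ¬ L ≤ 𝐂(X)} ⟨_, le_rfl, H69.le_normalizer_commutator nQ nQ, n⟩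
    have lQ := l1.trans (comm_le Q)
    have lt := commutator_lt_of_isPGroup (h1.to_le lQ) h1 (QX.trans l2) fun e => l3 (e ▸ bot_le)
    have c : ⁅L, Q⁆ ≤ 𝐂(X) := by
      by_contra c
      exact hmin _ ⟨lt.le.trans l1, H69.le_normalizer_commutator l2 nQ, c⟩ lt
    have c1 : ⁅⁅L, Q⁆, Q⁆ = ⊥ := commutator_eq_bot_of_le_centralizer (c.trans (centralizer_anti QX))
    have c2 : ⁅⁅Q, Q⁆, L⁆ = ⊥ :=
      commutator_commutator_eq_bot_of_rotate (by rwa [Subgroup.commutator_comm Q L]) c1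
    exact l3 (key L lQ (l1.trans (commutator_eq_bot_iff_le_centralizer.1 c2)) l2)
  refine ⟨?_, k2, key _ inf_le_left (inf_le_right.trans (centralizer_anti inf_le_left))
    (le_normalizer_inf nQ (le_normalizer_centralizer nQ))⟩
  have a : A ≤ 𝐂(Q ⊓ 𝐂(A)) := le_centralizer_iff.1 inf_le_right
  have c : ⁅⁅A, Q⁆, Q ⊓ 𝐂(A)⁆ = ⊥ := commutator_commutator_eq_bot_of_rotate
    (commutator_eq_bot_of_le_centralizer
      ((commutator_mono le_rfl inf_le_left).trans (k2.trans (centralizer_anti hAX))))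
    (by rw [commutator_eq_bot_of_le_centralizer inf_le_right, commutator_bot_left])
  rw [Subgroup.commutator_comm A, h3] at c
  exact le_centralizer_iff.1 (h2.trans (sup_le (commutator_eq_bot_iff_le_centralizer.1 c) a))

end H42F
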