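import Mathlib
import Cfsg.Agent.Base
import Cfsg.Agent.Lib.FSet.Defs
import Cfsg.Agent.Lib.FSet.A1a

set_option autoImplicit false
set_option linter.unusedSectionVars false

namespace H42F

open Subgroup H69
open scoped commutatorElement

variable {G : Type*} [Group G] [Finite G] {D : Set (Subgroup G)} {p q : ℕ}

theorem final (h : Pts p D) (hq : q.Prime) (hq2 : q ≠ 2) (hpq : p ≠ q) (hG : ¬ IsMulCommutative G) {A : Subgroup G}
    (hA : A ∈ D) (hL : Loc q D ⊤) :
    Odd (Nat.card (G ⧸ center G)) ∧ ∃ H : Subgroup (G ⧸ center G), Cfsg.IsFrobeniusComplement H := by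
  have : Fact q.Prime := ⟨hq⟩
  have : Fact p.Prime := ⟨h.prime⟩
  obtain ⟨k, hk⟩ := hL.L1.exists_card_eq
  have cop : (Nat.card (⁅(⊤ : Subgroup G), (⊤ : Subgroup G)⁆ : Subgroup G)).Coprime p := by
    rw [hk]; exact ((Nat.coprime_primes hq h.prime).2 hpq.symm).pow_left k
  have hn : A ≤ 𝐍((⁅(⊤ : Subgroup G), (⊤ : Subgroup G)⁆ : Subgroup G)) := le_top.trans (le_normalizer_comm ⊤)
  have hd := A1a.disj h hA cop
  have h2 := hL.L2 A hA le_top
  have h3 := hL.L3 A hA le_top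
  rw [H69.centralizer_top] at h3
  have syl := A1a.syl h hA hn cop le_top h2
  have nZ : ¬ A ≤ center G := fun e => hG ⟨⟨fun a b => (mem_center_iff.1 (h2.trans (sup_le
    ((le_inf le_rfl (le_centralizer_iff.1 (e.trans (center_le_centralizer _)))).trans h3) e)
      (mem_top b)) a)⟩⟩
  refine ⟨Odd.of_dvd_nat ?_ (card_quotient_dvd_card _), A.map (QuotientGroup.mk' _), fun e => nZ ?_,
    fun e => nZ ?_, fun g hg => ?_⟩
  · rw [← card_top, ← top_le_iff.1 h2, H2.card_sup_of_le_normalizer hn hd, hk, h.card A hA]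
    exact (hq.odd_of_ne_two hq2).pow.mul (h.prime.odd_of_ne_two h.odd)
  · rwa [Subgroup.map_eq_bot_iff, QuotientGroup.ker_mk'] at e
  · have := congrArg (comap (QuotientGroup.mk' (center G))) e
    rw [comap_map_eq, QuotientGroup.ker_mk', comap_top] at this
    rw [← H69.centralizer_top, le_centralizer_iff, ← this]
    exact sup_le (h.le_cent_self hA) (center_le_centralizer _)
  obtain ⟨g, rfl⟩ := QuotientGroup.mk'_surjective _ g
  rw [smul_eq_cj, ← map_cj, eq_bot_iff]
  rintro _ ⟨⟨a, ha, rfl⟩, b, hb, e⟩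
  by_contra n
  refine hg ?_
  obtain ⟨z, hz, e'⟩ := (QuotientGroup.mk'_eq_mk' _).1 e
  have h4 : A ^ᶜ g ≤ 𝐂(A) := h.le_of_inf_ne_bot (h.inv A hA g) (ne_bot_iff_exists_ne_one.2
    ⟨⟨b, mem_inf.2 ⟨hb, by
      rw [← mul_inv_cancel_right b z, e']
      exact mul_mem (h.le_cent_self hA ha) (inv_mem (center_le_centralizer _ hz))⟩⟩,
    fun k => n (by
      have : b = 1 := congrArg Subtype.val k
      rw [← e, this, map_one]; exact one_mem _)⟩)
  have h5 : g ∈ 𝐍(A) := mem_normalizer_of_cj_le (syl.le_of_le_normalizer'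
    (h.isPGroup (h.inv A hA g)) le_top (H69.le_normalizer_of_le_centralizer h4))
  obtain ⟨x, hx, c, hc, rfl⟩ := (mem_sup_of_le_normalizer_left hn).1 (h2 (mem_top g))
  have h6 : x ∈ center G := h3 ⟨hx, A1a.cent hn hd hx
    ((mul_mem_cancel_right (le_normalizer hc)).1 h5)⟩
  exact ⟨c, hc, by
    rw [map_mul, QuotientGroup.mk'_apply _ x, (QuotientGroup.eq_one_iff x).2 h6, one_mul]⟩

end H42F
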