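import Mathlib
import Cfsg.Agent.Base
import Cfsg.Agent.Lib.FSet.Defs

set_option autoImplicit false
set_option linter.unusedSectionVars false

namespace H42F

open Subgroup H69
open scoped commutatorElement

variable {G : Type*} [Group G] [Finite G] {D : Set (Subgroup G)} {p q : ℕ}

theorem Geo.coprime (h : Geo p q D) {X A T : Subgroup G} (hX : Sub D X) (hA : A ∈ D) (hT : T ≤ ⁅X, X⁆) :
    (Nat.card A).Coprime (Nat.card T) := by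
  have : Fact q.Prime := ⟨h.qprime⟩
  obtain ⟨n, hn⟩ := IsPGroup.iff_card.1 ((h.loc X hX).L1.to_le hT)
  rw [h.card A hA, hn]
  exact ((Nat.coprime_primes h.prime h.qprime).2 h.ne).pow_right n

theorem Geo.inf_Q_eq_bot (h : Geo p q D) {X A : Subgroup G} (hX : Sub D X) (hA : A ∈ D) : A ⊓ ⁅X, X⁆ = ⊥ :=
  H2.inf_eq_bot_of_coprime_card (h.coprime hX hA le_rfl)

theorem Geo.eq_Q_sup (h : Geo p q D) {X A : Subgroup G} (hX : Sub D X) (hA : A ∈ D) (hAX : A ≤ X) :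
    ⁅X, X⁆ ⊔ A = X :=
  le_antisymm (sup_le (comm_le X) hAX) ((h.loc X hX).L2 A hA hAX)

theorem Geo.exists_mul (h : Geo p q D) {X A : Subgroup G} (hX : Sub D X) (hA : A ∈ D) (hAX : A ≤ X) {x : G}
    (hx : x ∈ X) : ∃ u ∈ ⁅X, X⁆, ∃ a ∈ A, x = u * a :=
  (mem_sup_of_le_normalizer_left (hAX.trans (le_normalizer_comm X))).1 ((h.loc X hX).L2 A hA hAX hx)

theorem Geo.W_eq (h : Geo p q D) {X A : Subgroup G} (hX : Sub D X) (hA : A ∈ D) (hAX : A ≤ X) :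
    ⁅X, X⁆ ⊓ 𝐂(A) = W X :=
  le_antisymm (le_inf inf_le_left ((h.loc X hX).L3 A hA hAX))
    (le_inf (W_le_comm X) ((W_le_cent X).trans (centralizer_anti hAX)))

theorem Geo.W_mono (h : Geo p q D) {X Y : Subgroup G} (hX : Sub D X) (hY : Sub D Y) (hXY : X ≤ Y) : W X ≤ W Y := by
  obtain ⟨A, hA, hAX⟩ := hX.pt
  rw [← h.W_eq hY hA (hAX.trans hXY)]
  exact le_inf ((W_le_comm X).trans (commutator_mono hXY hXY)) ((W_le_cent X).trans (centralizer_anti hAX))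

theorem Geo.isPGroup_W (h : Geo p q D) {X : Subgroup G} (hX : Sub D X) : IsPGroup q (W X) :=
  (h.loc X hX).L1.to_le (W_le_comm X)

theorem Geo.card_eq (h : Geo p q D) {X : Subgroup G} (hX : Sub D X) :
    Nat.card X = Nat.card (⁅X, X⁆ : Subgroup G) * p := by
  obtain ⟨A, hA, hAX⟩ := hX.pt
  have e := H2.card_sup_of_le_normalizer (hAX.trans (le_normalizer_comm X)) (h.inf_Q_eq_bot hX hA)
  rwa [h.eq_Q_sup hX hA hAX, h.card A hA] at e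

theorem Geo.odd_card (h : Geo p q D) {X : Subgroup G} (hX : Sub D X) : Odd (Nat.card X) := by
  have : Fact q.Prime := ⟨h.qprime⟩
  obtain ⟨n, hn⟩ := IsPGroup.iff_card.1 (h.loc X hX).L1
  rw [h.card_eq hX, hn]
  exact ((h.qprime.odd_of_ne_two h.qodd).pow).mul (h.prime.odd_of_ne_two h.odd)

theorem Geo.solv (h : Geo p q D) {X : Subgroup G} (hX : Sub D X) : Group.IsSolvable X := by
  have : Fact q.Prime := ⟨h.qprime⟩
  obtain ⟨A, hA, hAX⟩ := hX.pt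
  rw [← h.eq_Q_sup hX hA hAX, sup_comm]
  exact H1.isSolvable_sup_of_le_normalizer (h.toPts.isSolvable hA)
    (H1.isSolvable_of_isPGroup (h.loc X hX).L1) (hAX.trans (le_normalizer_comm X))

theorem Geo.pt_conj (h : Geo p q D) {X A B : Subgroup G} (hX : Sub D X) (hA : A ∈ D) (hB : B ∈ D) (hAX : A ≤ X)
    (hBX : B ≤ X) : ∃ x ∈ ⁅X, X⁆, B = A ^ᶜ x := by
  obtain ⟨k, hk, hk'⟩ := H2.exists_conj_of_card_eq (hAX.trans (le_normalizer_comm X)) (h.coprime hX hA le_rfl)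
    (Or.inl (h.toPts.isSolvable hA)) (B := B) (by rw [h.eq_Q_sup hX hA hAX]; exact hBX)
    (by rw [h.card A hA, h.card B hB])
  refine ⟨k, hk, ?_⟩
  ext x
  rw [mem_cj, hk']
  simp [mul_assoc]

theorem Geo.all_conj (h : Geo p q D) {A B : Subgroup G} (hA : A ∈ D) (hB : B ∈ D) : ∃ g : G, B = A ^ᶜ g := by
  obtain ⟨x, -, hx⟩ := h.pt_conj (h.sub_pair hA hB) hA hB le_sup_left le_sup_right
  exact ⟨x, hx⟩

theorem Geo.eq_top_of_normal (h : Geo p q D) {A N : Subgroup G} [N.Normal] (hA : A ∈ D) (hAN : A ≤ N) : N = ⊤ := by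
  rw [eq_top_iff, ← h.top]
  refine sSup_le fun B hB => ?_
  obtain ⟨g, rfl⟩ := h.all_conj hA hB
  exact (cj_mono g hAN).trans (cj_eq_of_normal N g).le

theorem Geo.comm_Q (h : Geo p q D) {X A : Subgroup G} (hX : Sub D X) (hA : A ∈ D) (hAX : A ≤ X) :
    ⁅⁅X, X⁆, A⁆ = ⁅X, X⁆ := by
  have hn : A ≤ 𝐍(⁅X, X⁆) := hAX.trans (le_normalizer_comm X)
  have hle : ⁅⁅X, X⁆, A⁆ ≤ ⁅X, X⁆ := commutator_le_left_of_le_normalizer hn
  refine le_antisymm hle ?_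
  have h1 : X ≤ ⁅⁅X, X⁆, A⁆ ⊔ A := by
    refine hX.le_of_pts fun B hB hBX => ?_
    obtain ⟨x, hx, rfl⟩ := h.pt_conj hX hA hB hAX hBX
    have := cj_le_ncl A hx
    rwa [ncl_eq_sup_commutator, commutator_comm, sup_comm] at this
  have h2 : (⁅⁅X, X⁆, A⁆ ⊔ A) ⊓ ⁅X, X⁆ = ⁅⁅X, X⁆, A⁆ ⊔ (A ⊓ ⁅X, X⁆) :=
    dedekind_left (H69.le_normalizer_commutator hn le_normalizer) hle
  rw [h.inf_Q_eq_bot hX hA, sup_bot_eq] at h2
  rw [← h2]
  exact le_inf ((comm_le X).trans h1) le_rfl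

theorem Geo.norm_Q (h : Geo p q D) {X A : Subgroup G} (hX : Sub D X) (hA : A ∈ D) (hAX : A ≤ X) {x : G}
    (hx : x ∈ ⁅X, X⁆) (hn : x ∈ 𝐍(A)) : x ∈ W X := by
  rw [← h.W_eq hX hA hAX]
  refine ⟨hx, mem_centralizer_iff_commute.2 fun a ha => ?_⟩
  have h1 : x * a * x⁻¹ * a⁻¹ ∈ A ⊓ ⁅X, X⁆ := by
    refine mem_inf.2 ⟨mul_mem (conj_mem_of_mem_normalizer hn ha) (inv_mem ha), ?_⟩
    have := mul_mem hx (conj_mem_of_mem_normalizer (le_normalizer_comm X (hAX ha)) (inv_mem hx))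
    simpa only [mul_assoc] using this
  rw [h.inf_Q_eq_bot hX hA, mem_bot] at h1
  have : x * a = a * x := by
    calc x * a = (x * a * x⁻¹ * a⁻¹) * (a * x) := by group
      _ = a * x := by rw [h1, one_mul]
  exact this.symm

theorem Geo.inf_Q (h : Geo p q D) {I X : Subgroup G} (hI : Sub D I) (hX : Sub D X) (hIX : I ≤ X) :
    I ⊓ ⁅X, X⁆ = ⁅I, I⁆ := by
  obtain ⟨A, hA, hAI⟩ := hI.pt
  have h2 : (⁅I, I⁆ ⊔ A) ⊓ ⁅X, X⁆ = ⁅I, I⁆ ⊔ (A ⊓ ⁅X, X⁆) :=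
    dedekind_left (hAI.trans (le_normalizer_comm I)) (commutator_mono hIX hIX)
  rwa [h.inf_Q_eq_bot hX hA, sup_bot_eq, h.eq_Q_sup hI hA hAI] at h2

/-- an element centralizing a point centralizes every point it normalizes -/
theorem Geo.cent_of_norm (h : Geo p q D) {A B : Subgroup G} (hA : A ∈ D) (hB : B ∈ D) {t : G} (htA : t ∈ 𝐂(A))
    (htB : t ∈ 𝐍(B)) : t ∈ 𝐂(B) := by
  have hJ := h.sub_pair hA hB
  have htJ : t ∈ 𝐍(A ⊔ B) := by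
    rw [← cj_eq_self_iff, cj_sup, cj_eq_of_mem_centralizer htA, cj_eq_of_mem_normalizer htB]
  refine mem_centralizer_iff_commute.2 fun b hb => ?_
  obtain ⟨u, hu, a, ha, rfl⟩ := h.exists_mul hJ hA le_sup_left (mem_sup_right hb : b ∈ A ⊔ B)
  have h1 : t * (u * a) * t⁻¹ * (u * a)⁻¹ ∈ B ⊓ ⁅A ⊔ B, A ⊔ B⁆ := by
    refine mem_inf.2 ⟨mul_mem (conj_mem_of_mem_normalizer htB hb) (inv_mem hb), ?_⟩
    have e : t * (u * a) * t⁻¹ * (u * a)⁻¹ = (t * u * t⁻¹) * ((t * a * t⁻¹) * a⁻¹) * u⁻¹ := by group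
    rw [e, conj_eq_of_mem_centralizer htA ha, mul_inv_cancel, mul_one]
    exact mul_mem (conj_mem_of_mem_normalizer (normalizer_le_comm _ htJ) hu) (inv_mem hu)
  rw [h.inf_Q_eq_bot hJ hB, mem_bot] at h1
  calc u * a * t = (t * (u * a) * t⁻¹ * (u * a)⁻¹) * (u * a * t) := by rw [h1, one_mul]
    _ = t * (u * a) * t⁻¹ * t := by group
    _ = t * (u * a) := by group

/-- an `r`-group, `r ≠ q`, normalizing `X` normalizes a point of `X` -/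
theorem Geo.fix_pt (h : Geo p q D) {X E : Subgroup G} (hX : Sub D X) {r : ℕ} (hr : r.Prime) (hrq : r ≠ q)
    (hE : IsPGroup r E) (hn : E ≤ 𝐍(X)) : ∃ C ∈ D, C ≤ X ∧ E ≤ 𝐍(C) := by
  have : Fact q.Prime := ⟨h.qprime⟩
  have : Fact r.Prime := ⟨hr⟩
  obtain ⟨A, hA, hAX⟩ := hX.pt
  obtain ⟨n, hn'⟩ := IsPGroup.iff_card.1 (h.loc X hX).L1
  obtain ⟨m, hm⟩ := IsPGroup.iff_card.1 hE
  have hcop : (Nat.card E).Coprime (Nat.card (⁅X, X⁆ : Subgroup G)) := by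
    rw [hn', hm]
    exact Nat.Coprime.pow _ _ ((Nat.coprime_primes hr h.qprime).2 hrq)
  obtain ⟨k, hk, hk'⟩ := H2.exists_invariant_cj (hn.trans (normalizer_le_comm X)) hcop
    (Or.inl (H1.isSolvable_of_isPGroup hE)) (H := A) (by
      intro a ha
      obtain ⟨x, hx, e⟩ := h.pt_conj hX (h.inv A hA a) hA (cj_le_of_mem_normalizer hAX (hn ha)) hAX
      exact ⟨x, hx, e.symm⟩)
  exact ⟨A ^ᶜ k, h.inv A hA k, cj_le_of_mem hAX (comm_le X hk), hk'⟩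

/-- an involution centralizing a point centralizes a point in every `Sub` it normalizes -/
theorem Geo.plus_pt (h : Geo p q D) {X : Subgroup G} (hX : Sub D X) {t : G} (ht : Plus D t) (hn : t ∈ 𝐍(X)) :
    ∃ C ∈ D, C ≤ X ∧ C ≤ centralizer {t} := by
  obtain ⟨A, hA, hAt⟩ := ht.pt
  have h2 : IsPGroup 2 (zpowers t) := IsPGroup.of_card (n := 1) (by rw [Nat.card_zpowers, ht.ord, pow_one])
  obtain ⟨C, hC, hCX, hN⟩ := h.fix_pt hX Nat.prime_two h.qodd.symm h2 (zpowers_le.2 hn)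
  exact ⟨C, hC, hCX, le_centralizer_singleton_iff.2
    (h.cent_of_norm hA hC (le_centralizer_singleton_iff.1 hAt) (hN (mem_zpowers t)))⟩

theorem Geo.split (h : Geo p q D) {X A T : Subgroup G} (hX : Sub D X) (hA : A ∈ D) (hAX : A ≤ X)
    (hT : T ≤ ⁅X, X⁆) (hn : A ≤ 𝐍(T)) : ⁅T, A⁆ ⊔ (T ⊓ W X) = T := by
  have e := H2.commutator_sup_centralizer hn (h.coprime hX hA hT) (Or.inl (h.toPts.isSolvable hA))
  have e2 : T ⊓ W X = T ⊓ 𝐂(A) := by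
    rw [← h.W_eq hX hA hAX, ← inf_assoc, inf_eq_left.2 hT]
  rwa [e2]

theorem Geo.split_mem (h : Geo p q D) {X A T : Subgroup G} (hX : Sub D X) (hA : A ∈ D) (hAX : A ≤ X)
    (hT : T ≤ ⁅X, X⁆) (hn : A ≤ 𝐍(T)) {x : G} (hx : x ∈ T) : ∃ u ∈ ⁅T, A⁆, ∃ w ∈ T ⊓ W X, x = u * w := by
  obtain ⟨u, hu, c, hc, e⟩ := H2.exists_commutator_mul_centralizer hn (h.coprime hX hA hT)
    (Or.inl (h.toPts.isSolvable hA)) hx
  refine ⟨u, hu, c, ⟨hc.1, ?_⟩, e⟩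
  rw [← h.W_eq hX hA hAX]
  exact ⟨hT hc.1, hc.2⟩

/-- `[T, A] ≤ (gen H)'` for an `A`-invariant `T ≤ X' ⊓ H` -/
theorem Geo.comm_le_Q (h : Geo p q D) {X A T H : Subgroup G} (hX : Sub D X) (hA : A ∈ D) (hT : T ≤ ⁅X, X⁆)
    (hn : A ≤ 𝐍(T)) (hAH : A ≤ H) (hTH : T ≤ H) : ⁅T, A⁆ ≤ ⁅gen D H, gen D H⁆ := by
  rw [← H2.commutator_commutator_eq hn (h.coprime hX hA hT)]
  exact commutator_mono (h.toPts.comm_le_gen hA hAH hTH) (le_gen hA hAH)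

theorem Geo.cent_split (h : Geo p q D) {X A : Subgroup G} (hX : Sub D X) (hA : A ∈ D) (hAX : A ≤ X) {t : G}
    (hAt : A ≤ centralizer {t}) {x : G} (hx : x ∈ ⁅X, X⁆) (hxt : x ∈ centralizer {t}) :
    ∃ u ∈ ⁅Xc D t, Xc D t⁆ ⊓ ⁅X, X⁆, ∃ w ∈ W X ⊓ centralizer {t}, x = u * w := by
  have hn : A ≤ 𝐍(⁅X, X⁆ ⊓ centralizer {t}) :=
    H69.le_normalizer_inf (hAX.trans (le_normalizer_comm X)) (le_normalizer_of_le hAt)
  obtain ⟨u, hu, w, hw, e⟩ := h.split_mem hX hA hAX inf_le_left hn (x := x) ⟨hx, hxt⟩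
  exact ⟨u, ⟨h.comm_le_Q hX hA inf_le_left hn hAt inf_le_right hu,
    (commutator_le_left_of_le_normalizer hn hu).1⟩, w, ⟨hw.2, hw.1.2⟩, e⟩

theorem Geo.le_of_Q_le (h : Geo p q D) {X Y A : Subgroup G} (hX : Sub D X) (hA : A ∈ D) (hAX : A ≤ X) (hAY : A ≤ Y)
    (hQ : ⁅X, X⁆ ≤ Y ⊔ W X) (hYX : Y ≤ X) : X ≤ Y := by
  rw [← h.eq_Q_sup hX hA hAX]
  refine sup_le ?_ hAY
  rw [← h.comm_Q hX hA hAX]
  refine (commutator_mono hQ le_rfl).trans (commutator_sup_le_left le_normalizer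
    (le_normalizer_of_le_centralizer ((W_le_cent X).trans (centralizer_anti hYX))) (commutator_le_of_le le_rfl hAY) ?_)
  rw [commutator_eq_bot_of_le_centralizer ((W_le_cent X).trans (centralizer_anti hAX))]
  exact bot_le

theorem Geo.eq_pt (h : Geo p q D) {X A : Subgroup G} (hX : Sub D X) (hA : A ∈ D) (hAX : A ≤ X) (hQ : ⁅X, X⁆ = ⊥) :
    X = A := by
  rw [← h.eq_Q_sup hX hA hAX, hQ, bot_sup_eq]

theorem Geo.sub_cj_pair (h : Geo p q D) {B : Subgroup G} (hB : B ∈ D) {t : G} (ht : t * t = 1) :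
    Sub D (B ⊔ B ^ᶜ t) ∧ t ∈ 𝐍(B ⊔ B ^ᶜ t) := by
  refine ⟨h.sub_pair hB (h.inv B hB t), ?_⟩
  rw [← cj_eq_self_iff, cj_sup, cj_cj, ht, cj_one, sup_comm]

end H42F
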