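import Mathlib
import Cfsg.Agent.Base
import Cfsg.Agent.Lib.FSet.Defs
import Cfsg.Agent.Lib.FSet.Bas

set_option autoImplicit false
set_option linter.unusedSectionVars false

namespace H42F

open Subgroup H69
open scoped commutatorElement

variable {G : Type*} [Group G] [Finite G] {D : Set (Subgroup G)} {p q : ℕ}

theorem A6_comap_ne {Γ : Type*} [Group Γ] (f : G →* Γ) (hf : Function.Surjective f) {X : Subgroup Γ}
    (hX : X ≠ ⊤) : X.comap f ≠ ⊤ := by
  intro e
  apply hX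
  rw [← map_comap_eq_self_of_surjective hf X, e, ← MonoidHom.range_eq_map,
    MonoidHom.range_eq_top.2 hf]

theorem A6_map_cent {Γ : Type*} [Group Γ] (f : G →* Γ) (X : Subgroup G) :
    (𝐂(X)).map f ≤ 𝐂(X.map f) := by
  rintro _ ⟨w, hw, rfl⟩
  rw [mem_centralizer_iff_commute]
  rintro _ ⟨x, hx, rfl⟩
  rw [← map_mul, ← map_mul, mem_centralizer_iff_commute.1 hw x hx]

theorem A6_map_inf (h : Geo p q D) {Γ : Type*} [Group Γ] [Finite Γ] (f : G →* Γ) {X A : Subgroup G}
    (hX : Sub D X) (hA : A ∈ D) (hAX : A ≤ X) :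
    (W X).map f = ⁅X.map f, X.map f⁆ ⊓ 𝐂(A.map f) := by
  rw [← h.W_eq hX hA hAX, H2.map_inf_centralizer_of_coprime (hAX.trans (le_normalizer_comm X))
    (h.coprime hX hA le_rfl) (Or.inl (h.toPts.isSolvable hA)), map_commutator]

theorem A6_solv {Γ : Type*} [Group Γ] (f : G →* Γ) (hk : Group.IsSolvable f.ker)
    (h : Group.IsSolvable ((⊤ : Subgroup G).map f)) : Group.IsSolvable G := by
  have := H1.isSolvable_of_map_of_ker f h (by rwa [inf_top_eq])
  exact Group.isSolvable_of_surjective (f := (⊤ : Subgroup G).subtype) fun g => ⟨⟨g, mem_top g⟩, rfl⟩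

theorem Geo.lift_sub (h : Geo p q D) {Γ : Type*} [Group Γ] [Finite Γ] (f : G →* Γ) (hf : Function.Surjective f)
    {X : Subgroup Γ} (hX : Sub ((Subgroup.map f) '' D) X) :
    Sub D (gen D (X.comap f)) ∧ (gen D (X.comap f)).map f = X ∧ (W (gen D (X.comap f))).map f = W X := by
  obtain ⟨_, ⟨A, hA, rfl⟩, hAX⟩ := hX.pt
  have hA' : A ≤ X.comap f := map_le_iff_le_comap.1 hAX
  have s1 : Sub D (gen D (X.comap f)) := sub_gen (A6_comap_ne f hf hX.ne_top) hA hA'
  have s2 : (gen D (X.comap f)).map f = X := by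
    apply le_antisymm (map_le_iff_le_comap.2 (gen_le _))
    apply hX.le_of_pts
    rintro _ ⟨B, hB, rfl⟩ hBX
    exact map_mono (le_gen hB (map_le_iff_le_comap.1 hBX))
  refine ⟨s1, s2, le_antisymm (le_inf ?_ ?_) ?_⟩
  · refine (map_mono (W_le_comm _)).trans ?_
    rw [map_commutator, s2]
  · refine (map_mono (W_le_cent _)).trans ((A6_map_cent f _).trans ?_)
    rw [s2]
  · rw [A6_map_inf h f s1 hA (le_gen hA hA'), s2]
    exact inf_le_inf_left _ (centralizer_anti hAX)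

theorem Geo.quot (h : Geo p q D) (hG : ¬ Group.IsSolvable G) {Γ : Type*} [Group Γ] [Finite Γ] (f : G →* Γ)
    (hf : Function.Surjective f) (hk : Group.IsSolvable f.ker) : Geo p q ((Subgroup.map f) '' D) := by
  have ht : (⊤ : Subgroup G).map f = ⊤ := by
    rw [← MonoidHom.range_eq_map, MonoidHom.range_eq_top.2 hf]
  refine ⟨⟨h.prime, h.odd, ?_, ?_⟩, h.qprime, h.qodd, h.ne, ?_, h.nonempty.image _, ?_, ?_⟩
  · rintro _ ⟨A, hA, rfl⟩
    have hb : A ⊓ f.ker = ⊥ := by
      by_contra hne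
      have e := h.eq_top_of_normal hA (h.toPts.le_of_inf_ne_bot hA hne)
      apply hG
      rw [e] at hk
      exact Group.isSolvable_of_surjective (f := (⊤ : Subgroup G).subtype)
        fun g => ⟨⟨g, mem_top g⟩, rfl⟩
    rw [← h.card A hA]
    symm
    apply Nat.card_congr (Equiv.ofBijective (f.subgroupMap A) ⟨?_, f.subgroupMap_surjective A⟩)
    rw [injective_iff_map_eq_one]
    intro a ha
    have : (a : G) ∈ A ⊓ f.ker := ⟨a.2, congrArg Subtype.val ha⟩
    rw [hb] at this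
    exact Subtype.ext this
  · rintro _ ⟨A, hA, rfl⟩ g
    obtain ⟨g, rfl⟩ := hf g
    exact ⟨_, h.inv A hA g, map_cj f A g⟩
  · rw [eq_top_iff, ← ht, ← h.top, map_le_iff_le_comap]
    exact sSup_le fun A hA => map_le_iff_le_comap.1 (le_sSup ⟨A, hA, rfl⟩)
  · rintro _ ⟨A, hA, rfl⟩ _ ⟨B, hB, rfl⟩ e
    apply hG (A6_solv f hk _)
    rw [ht, ← e, ← Subgroup.map_sup]
    exact H1.isSolvable_map (h.solv (h.sub_pair hA hB)) f
  · intro X hX
    obtain ⟨s1, s2, s3⟩ := h.lift_sub f hf hX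
    have hL := h.loc _ s1
    refine ⟨?_, ?_, ?_⟩
    · have := hL.L1.map f
      rwa [map_commutator, s2] at this
    · rintro _ ⟨A, hA, rfl⟩ hAX
      have := map_mono (f := f) (hL.L2 A hA (le_gen hA (map_le_iff_le_comap.1 hAX)))
      rwa [Subgroup.map_sup, map_commutator, s2] at this
    · rintro _ ⟨A, hA, rfl⟩ hAX
      have := A6_map_inf h f s1 hA (le_gen hA (map_le_iff_le_comap.1 hAX))
      rw [s2, s3] at this
      rw [← this]
      exact W_le_cent X

theorem Geo.quot_noW (h : Geo p q D) {Γ : Type*} [Group Γ] [Finite Γ] (f : G →* Γ) (hf : Function.Surjective f)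
    (hW : NoW D) : NoW ((Subgroup.map f) '' D) := by
  intro X hX
  obtain ⟨s1, -, s3⟩ := h.lift_sub f hf hX
  rw [← s3, hW _ s1, Subgroup.map_bot]

theorem Geo.quot_cl2 (h : Geo p q D) {Γ : Type*} [Group Γ] [Finite Γ] (f : G →* Γ) (hf : Function.Surjective f)
    (hW : Cl2 D) : Cl2 ((Subgroup.map f) '' D) := by
  intro X hX
  obtain ⟨s1, s2, -⟩ := h.lift_sub f hf hX
  have := (map_mono (f := f) (hW _ s1)).trans (A6_map_cent f _)
  rwa [map_commutator, map_commutator, s2] at this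

theorem Geo.quot_fix (h : Geo p q D) {Γ : Type*} [Group Γ] [Finite Γ] (f : G →* Γ) (hf : Function.Surjective f)
    (hZ : center Γ = ⊥) (hW : Fix D f.ker) : Fix ((Subgroup.map f) '' D) ⊥ := by
  rintro X Y _ w hX hY ⟨A, hA, rfl⟩ hw h1 hn hAY hAw
  obtain ⟨s1, -, s3⟩ := h.lift_sub f hf hX
  obtain ⟨t1, t2, -⟩ := h.lift_sub f hf hY
  have hw' := hw
  rw [← s3] at hw'
  obtain ⟨w, hw1, rfl⟩ := hw'
  have hA' : A ≤ (centralizer {f w}).comap f := map_le_iff_le_comap.1 hAw
  have u1 : Sub D (gen D ((centralizer {f w}).comap f)) :=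
    sub_gen (A6_comap_ne f hf (centralizer_ne_top (hZ ▸ h1))) hA hA'
  have hw2 := h.W_mono s1 u1 (gen_mono (comap_mono (le_cent_of_mem_W hw))) hw1
  have hn' : w ∈ 𝐍(gen D (Y.comap f)) := by
    apply h.toPts.normalizer_le_gen
    rw [← cj_eq_self_iff, comap_cj, cj_eq_of_mem_normalizer hn]
  have := hW _ _ A w s1 t1 hA hw1 h1 hn' (le_gen hA (map_le_iff_le_comap.1 hAY))
    ((le_gen hA hA').trans (le_cent_of_mem_W hw2))
  rw [← t2]
  rintro _ ⟨y, hy, rfl⟩
  rw [mem_centralizer_singleton_iff, ← map_mul, ← map_mul, mem_centralizer_singleton_iff.1 (this hy)]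

theorem rad_quot : Rad (G ⧸ Cfsg.solvableRadical G) := by
  intro N hN hs
  rw [eq_bot_iff, ← H1.solvableRadical_quotient]
  exact H1.le_solvableRadical hs

end H42F
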