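import Mathlib
import Cfsg.Agent.Base
import Cfsg.Agent.Lib.FSet.Defs
import Cfsg.Agent.Lib.FSet.Bas
import Cfsg.Agent.S0205
import Cfsg.Agent.S0225

set_option autoImplicit false
set_option linter.unusedSectionVars false

namespace H42F

open Subgroup H69
open scoped commutatorElement

variable {G : Type*} [Group G] [Finite G] {D : Set (Subgroup G)} {p q : ℕ}

theorem Rad.exists_four (hR : Rad G) [Nontrivial G] : ∃ E : Subgroup G, IsKleinFour E := by
  by_contra hne
  have hne' : ∀ E : Subgroup G, ¬ IsKleinFour E := fun E hE => hne ⟨E, hE⟩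
  rcases Nat.even_or_odd (Nat.card G) with hev | hodd
  · obtain ⟨z, hz, N, hN, hNo, hc⟩ := Cfsg.Agent.S0225.result hev hne'
    have hb : N = ⊥ := hR N hN (Cfsg.Agent.S0205.result hNo)
    have hz1 : z ≠ 1 := by
      intro e
      rw [e, orderOf_one] at hz
      omega
    apply hR.not_mem_center hz1
    rw [mem_center_iff]
    intro g
    have h1 := hc g
    rw [hb, mem_bot] at h1
    calc g * z = (z * g * z⁻¹ * g⁻¹)⁻¹ * (z * g) := by group
      _ = z * g := by rw [h1, inv_one, one_mul]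
  · haveI hs := Cfsg.Agent.S0205.result hodd
    have : (⊤ : Subgroup G) = ⊥ := hR ⊤ inferInstance inferInstance
    exact top_ne_bot this

/-- an involution normalizing a point centralizes or inverts it -/
theorem E3_inv (h : Pts p D) {A : Subgroup G} (hA : A ∈ D) {e : G} (he : e * e = 1) (hn : e ∈ 𝐍(A)) :
    A ≤ centralizer {e} ∨ ∀ c ∈ A, e * c * e⁻¹ = c⁻¹ := by
  by_cases hb : A ⊓ centralizer {e} = ⊥
  · right
    intro c hc
    have h1 : e * c * e⁻¹ ∈ A := conj_mem_of_mem_normalizer hn hc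
    have hcm : c * (e * c * e⁻¹) = (e * c * e⁻¹) * c :=
      mem_centralizer_iff_commute.1 (h.le_cent_self hA h1) c hc
    have h2 : c * (e * c * e⁻¹) ∈ A ⊓ centralizer {e} := by
      refine mem_inf.2 ⟨A.mul_mem hc h1, ?_⟩
      rw [mem_centralizer_singleton_iff]
      have hi : e⁻¹ = e := inv_eq_of_mul_eq_one_right he
      calc c * (e * c * e⁻¹) * e = c * e * c := by group
        _ = (e * e) * c * e * c := by rw [he, one_mul]
        _ = e * ((e * c * e⁻¹) * c) := by rw [hi]; group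
        _ = e * (c * (e * c * e⁻¹)) := by rw [hcm]
    rw [hb, mem_bot] at h2
    exact eq_inv_of_mul_eq_one_right h2
  · exact Or.inl (h.le_of_inf_ne_bot hA hb)

theorem E3_ord {e : G} (h1 : e ≠ 1) (h2 : e * e = 1) : orderOf e = 2 :=
  orderOf_eq_prime (by rw [pow_two]; exact h2) h1

theorem E3_four {E : Subgroup G} (hE : IsKleinFour E) :
    IsPGroup 2 E ∧ (∀ x ∈ E, x * x = 1) ∧ ∃ u ∈ E, ∃ v ∈ E, u ≠ 1 ∧ v ≠ 1 ∧ u ≠ v := by
  refine ⟨IsPGroup.of_card (n := 2) (by rw [hE.card_four]; norm_num), fun x hx => ?_, ?_⟩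
  · exact congrArg Subtype.val (IsKleinFour.mul_self (⟨x, hx⟩ : E))
  · classical
    haveI := Fintype.ofFinite E
    have hc : 2 < (Finset.univ : Finset E).card := by
      rw [Finset.card_univ, ← Nat.card_eq_fintype_card, hE.card_four]
      norm_num
    obtain ⟨a, -, b, -, c, -, hab, hac, hbc⟩ := Finset.two_lt_card.1 hc
    by_cases ha : a = 1
    · refine ⟨b, b.2, c, c.2, fun e => hab (ha.trans (Subtype.ext e).symm),
        fun e => hac (ha.trans (Subtype.ext e).symm), fun e => hbc (Subtype.ext e)⟩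
    · by_cases hb : b = 1
      · refine ⟨a, a.2, c, c.2, fun e => ha (Subtype.ext e),
          fun e => hbc (hb.trans (Subtype.ext e).symm), fun e => hac (Subtype.ext e)⟩
      · exact ⟨a, a.2, b, b.2, fun e => ha (Subtype.ext e), fun e => hb (Subtype.ext e),
          fun e => hab (Subtype.ext e)⟩

theorem Geo.exists_plus (h : Geo p q D) (hR : Rad G) : ∃ t : G, Plus D t := by
  obtain ⟨B, hB⟩ := h.nonempty
  haveI : Nontrivial G := by
    obtain ⟨a, -, ha, -⟩ := h.toPts.exists_gen hB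
    exact ⟨a, 1, ha⟩
  obtain ⟨E, hE⟩ := hR.exists_four
  obtain ⟨hE2, hsq, u, hu, v, hv, hu1, hv1, huv⟩ := E3_four hE
  have hq2 : 2 ≠ q := fun e => h.qodd e.symm
  have hcomm : u * v = v * u := by
    have h1 := hsq _ (E.mul_mem hu hv)
    have hui : u⁻¹ = u := inv_eq_of_mul_eq_one_right (hsq u hu)
    have hvi : v⁻¹ = v := inv_eq_of_mul_eq_one_right (hsq v hv)
    calc u * v = (u * v)⁻¹ := (inv_eq_of_mul_eq_one_right h1).symm
      _ = v * u := by rw [mul_inv_rev, hui, hvi]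
  obtain ⟨s1, n1⟩ := h.sub_cj_pair hB (hsq u hu)
  obtain ⟨C, hC, -, hCn⟩ := h.fix_pt s1 Nat.prime_two hq2 (hE2.to_le (zpowers_le.2 hu)) (zpowers_le.2 n1)
  have huC : u ∈ 𝐍(C) := hCn (mem_zpowers u)
  obtain ⟨s2, n2⟩ := h.sub_cj_pair hC (hsq v hv)
  have n3 : u ∈ 𝐍(C ⊔ C ^ᶜ v) := by
    rw [← cj_eq_self_iff, cj_sup, cj_cj, hcomm, ← cj_cj, cj_eq_of_mem_normalizer huC]
  obtain ⟨A, hA, -, hAn⟩ := h.fix_pt (E := zpowers u ⊔ zpowers v) s2 Nat.prime_two hq2
    (hE2.to_le (sup_le (zpowers_le.2 hu) (zpowers_le.2 hv))) (sup_le (zpowers_le.2 n3) (zpowers_le.2 n2))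
  have huA : u ∈ 𝐍(A) := hAn (mem_sup_left (mem_zpowers u))
  have hvA : v ∈ 𝐍(A) := hAn (mem_sup_right (mem_zpowers v))
  rcases E3_inv h.toPts hA (hsq u hu) huA with h1 | h1
  · exact ⟨u, E3_ord hu1 (hsq u hu), A, hA, h1⟩
  rcases E3_inv h.toPts hA (hsq v hv) hvA with h2 | h2
  · exact ⟨v, E3_ord hv1 (hsq v hv), A, hA, h2⟩
  refine ⟨u * v, E3_ord (fun e => huv ?_) (hsq _ (E.mul_mem hu hv)), A, hA, fun c hc => ?_⟩
  · calc u = u * (v * v) := by rw [hsq v hv, mul_one]
      _ = v := by rw [← mul_assoc, e, one_mul]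
  · rw [mem_centralizer_singleton_iff]
    have h3 : u * v * c * (u * v)⁻¹ = c := by
      calc u * v * c * (u * v)⁻¹ = u * (v * c * v⁻¹) * u⁻¹ := by group
        _ = (u * c * u⁻¹)⁻¹ := by rw [h2 c hc]; group
        _ = c := by rw [h1 c hc, inv_inv]
    calc c * (u * v) = (u * v * c * (u * v)⁻¹) * (u * v) := by rw [h3]
      _ = u * v * c := by group

end H42F
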