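import Mathlib
import Cfsg.Agent.Base
import Cfsg.Agent.Lib.FSet.Defs
import Cfsg.Agent.Lib.FSet.Bas

set_option autoImplicit false
set_option linter.unusedSectionVars false

namespace H42F

open Subgroup H69
open scoped commutatorElement

variable {G : Type*} [Group G] [Finite G] {D : Set (Subgroup G)} {p q : ℕ}

theorem Geo.le_Xc (h : Geo p q D) {X Y : Subgroup G} (hX : Sub D X) {z : G} (hz : z ∈ W X) (hY : Sub D Y)
    (hXY : X ≤ Y) : Y ≤ Xc D z :=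
  hY.le_gen (le_cent_of_mem_W (h.W_mono hX hY hXY hz))

theorem Geo.blk_Xc (h : Geo p q D) {X : Subgroup G} (hX : Sub D X) {z : G} (hz : z ∈ W X) (hzc : z ∉ center G) :
    Blk D (Xc D z) ∧ X ≤ Xc D z ∧ z ∈ W (Xc D z) := by
  obtain ⟨A, hA, hAX⟩ := hX.pt
  have hS : Sub D (Xc D z) := sub_gen (centralizer_ne_top hzc) hA (hAX.trans (le_cent_of_mem_W hz))
  have hle : X ≤ Xc D z := h.le_Xc hX hz hX le_rfl
  have hzW : z ∈ W (Xc D z) := h.W_mono hX hS hle hz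
  refine ⟨⟨hS, fun e => hzc ?_, fun Y hY hXY => le_antisymm (h.le_Xc hS hzW hY hXY) hXY⟩, hle, hzW⟩
  rw [e, mem_bot] at hzW
  rw [hzW]
  exact one_mem _

theorem Geo.Xc_eq (h : Geo p q D) {B : Subgroup G} (hB : Blk D B) {z : G} (hz : z ∈ W B) (hzc : z ∉ center G) :
    Xc D z = B := by
  obtain ⟨h1, h2, -⟩ := h.blk_Xc hB.sub hz hzc
  exact hB.max _ h1.sub h2

theorem Geo.cent_le_norm (h : Geo p q D) {B : Subgroup G} (hB : Blk D B) {z : G} (hz : z ∈ W B)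
    (hzc : z ∉ center G) : centralizer {z} ≤ 𝐍(B) := by
  rw [← h.Xc_eq hB hz hzc]
  exact h.toPts.cent_le_normalizer_Xc z

theorem Geo.W_le_center (h : Geo p q D) {Y B B' : Subgroup G} (hY : Sub D Y) (hB : Blk D B) (hB' : Blk D B')
    (hne : B ≠ B') (h1 : Y ≤ B) (h2 : Y ≤ B') : W Y ≤ center G := by
  intro z hz
  by_contra hzc
  exact hne ((h.Xc_eq hB (h.W_mono hY hB.sub h1 hz) hzc).symm.trans
    (h.Xc_eq hB' (h.W_mono hY hB'.sub h2 hz) hzc))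

theorem Hard.blk_unique (h : Hard p q D) {B B' A : Subgroup G} (hB : Blk D B) (hB' : Blk D B') {w : G}
    (hw : w ∈ W B) (h1 : w ≠ 1) (hn : w ∈ 𝐍(B')) (hA : A ∈ D) (hAB : A ≤ B) (hAB' : A ≤ B') : B' = B := by
  have h2 : B' ≤ centralizer {w} :=
    h.fix B B' A w hB.sub hB'.sub hA hw (by rwa [mem_bot]) hn hAB' (hAB.trans (le_cent_of_mem_W hw))
  have h3 : B' ≤ B := by
    rw [← h.toGeo.Xc_eq hB hw (h.rad.not_mem_center h1)]
    exact hB'.sub.le_gen h2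
  exact (hB'.max B hB.sub h3).symm

theorem Hard.pgroup_norm (h : Hard p q D) {B A P : Subgroup G} (hB : Blk D B) (hA : A ∈ D) (hAB : A ≤ B) {r : ℕ}
    (hr : r.Prime) (hP : IsPGroup r P) (hPA : P ≤ 𝐍(A)) (hne : P ⊓ W B ≠ ⊥) : P ≤ 𝐍(B) := by
  have : Fact r.Prime := ⟨hr⟩
  by_contra hcon
  have hlt : P ⊓ 𝐍(B) < P := lt_of_le_of_ne inf_le_left fun e => hcon (e.symm.le.trans inf_le_right)
  obtain ⟨x, hx, hx'⟩ := SetLike.exists_of_lt (lt_inf_normalizer_of_lt hP hlt)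
  obtain ⟨⟨w, hw⟩, h1⟩ := ne_bot_iff_exists_ne_one.1 hne
  have hw1 : w ≠ 1 := fun e => h1 (Subtype.ext e)
  have hw0 : w ∈ P ⊓ 𝐍(B) := ⟨hw.1, le_normalizer (W_le B hw.2)⟩
  have hwn : w ∈ 𝐍(B ^ᶜ x) := by
    rw [← cj_normalizer, mem_cj]
    exact (conj_mem_of_mem_normalizer' hx.2 hw0).2
  have e := h.blk_unique hB (h.toPts.blk_cj hB x) hw.2 hw1 hwn hA hAB (by
    rw [← cj_eq_of_mem_normalizer (hPA hx.1)]
    exact cj_mono x hAB)
  exact hx' ⟨hx.1, cj_eq_self_iff.1 e⟩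

theorem Hard.Yq_sub (h : Hard p q D) {I : Subgroup G} (hI : Sub D I) (hQ : ⁅I, I⁆ ≠ ⊥) :
    Sub D (Yq D I) ∧ I ≤ Yq D I := by
  have : Fact q.Prime := ⟨h.qprime⟩
  obtain ⟨A, hA, hAI⟩ := hI.pt
  refine ⟨sub_gen (fun e => hQ ?_) hA (hAI.trans (le_normalizer_comm I)), hI.le_gen (le_normalizer_comm I)⟩
  exact h.rad _ (normal_iff_top_le_normalizer.2 e.symm.le) (H1.isSolvable_of_isPGroup (h.loc I hI).L1)

theorem Hard.Yq_le (h : Hard p q D) {I B : Subgroup G} (hI : Sub D I) (hQ : ⁅I, I⁆ ≠ ⊥) (hB : Blk D B)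
    (hIB : I ≤ B) : Yq D I ≤ B := by
  obtain ⟨hY, hIY⟩ := h.Yq_sub hI hQ
  obtain ⟨A, hA, hAI⟩ := hI.pt
  obtain ⟨⟨w, hw⟩, h1⟩ := ne_bot_iff_exists_ne_one.1 hB.w
  have hw1 : w ≠ 1 := fun e => h1 (Subtype.ext e)
  have hwI : w ∈ 𝐍(I) := le_normalizer_of_le_centralizer ((W_le_cent B).trans (centralizer_anti hIB)) hw
  have h2 : Yq D I ≤ centralizer {w} :=
    h.fix B _ A w hB.sub hY hA hw (by rwa [mem_bot]) (h.toPts.normalizer_le_Yq I hwI) (hAI.trans hIY)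
      ((hAI.trans hIB).trans (le_cent_of_mem_W hw))
  rw [← h.toGeo.Xc_eq hB hw (h.rad.not_mem_center hw1)]
  exact hY.le_gen h2

theorem Hard.le_Yq (h : Hard p q D) {I Y : Subgroup G} (hI : Sub D I) (hY : Sub D Y) (hW : W Y = ⊥) (hIY : I ≤ Y) :
    Y ≤ Yq D I := by
  obtain ⟨A, hA, hAI⟩ := hI.pt
  refine hY.le_gen ?_
  rw [← h.toGeo.eq_Q_sup hY hA (hAI.trans hIY)]
  refine sup_le (le_normalizer_of_le_centralizer (le_centralizer_of_commutator_eq_bot ?_))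
    (hAI.trans (le_normalizer_comm I))
  rw [eq_bot_iff, ← hW]
  exact (commutator_mono le_rfl (commutator_mono hIY hIY)).trans (le_inf (comm_le _) (h.cl2 Y hY))

end H42F
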