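import Mathlib
import Cfsg.Agent.Base
import Cfsg.Agent.Lib.FSet.Defs
import Cfsg.Agent.S0942
import Cfsg.Agent.S0907
import Cfsg.Agent.Lib.Deg.Basic
import Cfsg.Agent.Lib.Block.Apps

set_option autoImplicit false
set_option linter.unusedSectionVars false

namespace H42F

open Subgroup H69
open scoped commutatorElement

variable {G : Type*} [Group G] [Finite G]

theorem char_false (a t : G) (ha : normalClosure ({a} : Set G) = ⊤) (ht : orderOf t = 2)
    (h : ∀ g : G, ∃ y ∈ Cfsg.centralizerPPrimeCore 2 t, IsConj (g * a * g⁻¹ * t) (t * y)) : False := by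
  classical
  have := Fintype.ofFinite G
  obtain ⟨M, hM⟩ := H33.exists_isPModular 2
  have := hM.2.1
  have key : ∀ χ ∈ Cfsg.principalBlock M G, χ ≠ H33.oneIrr G → (χ : G → ℂ) t = 0 := by
    intro χ hχ hne
    by_contra h0
    have hc := H6.irr_isCharacter χ.2
    have h1 : ∀ g : G, (χ : G → ℂ) (g * a * g⁻¹ * t) = (χ : G → ℂ) t := fun g => by
      obtain ⟨y, hy, c⟩ := h g
      obtain ⟨d, hd⟩ := isConj_iff.1 c
      rw [← Cfsg.Agent.S0942.result 2 M hM t ⟨1, by rw [ht, pow_one]⟩ y hy χ hχ, ← hd,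
        H6.char_isClassFunction hc]
    have h2 := H87.sum_conj_mul χ.2 a t
    rw [Finset.sum_congr rfl fun g _ => h1 g, Finset.sum_const, Finset.card_univ, nsmul_eq_mul,
      ← Nat.card_eq_fintype_card, eq_div_iff (H6.irr_one_ne_zero χ.2)] at h2
    have hG : (Nat.card G : ℂ) ≠ 0 := Nat.cast_ne_zero.2 Nat.card_pos.ne'
    have h3 : (χ : G → ℂ) a = (χ : G → ℂ) 1 :=
      mul_left_cancel₀ (mul_ne_zero hG h0) (by linear_combination -h2)
    have h4 : normalClosure ({a} : Set G) ≤ H6.charKer (χ : G → ℂ) :=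
      normalClosure_le_normal (Set.singleton_subset_iff.2 ((H6.mem_charKer hc).2 h3))
    exact hne (Subtype.ext (H87.irr_eq_one_of_forall χ.2 fun g =>
      (H6.mem_charKer hc).1 (h4 (ha ▸ mem_top g))))
  have h5 := Cfsg.Agent.S0907.result 2 M hM _ H33.isPBlock_principalBlock 1 t (by simp) (ht ▸ dvd_rfl)
  rw [finsum_eq_single _ (H33.oneIrr G), finsum_eq_if, if_pos H33.oneIrr_mem_principalBlock] at h5
  · simp at h5
  · intro χ hne
    rw [finsum_eq_if]
    split_ifs with hχ
    · rw [key χ hχ hne, map_zero, mul_zero]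
    · rfl

end H42F
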