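import Mathlib
import Cfsg.Agent.Base
import Cfsg.Agent.Lib.FSet.Defs
import Cfsg.Agent.Lib.FSet.Bas
import Cfsg.Agent.Lib.FSet.E1

set_option autoImplicit false
set_option linter.unusedSectionVars false

namespace H42F

open Subgroup H69
open scoped commutatorElement

variable {G : Type*} [Group G] [Finite G] {D : Set (Subgroup G)} {p q : ℕ}

theorem E2_dih {a b : G} (ha : a * a = 1) (hb : b * b = 1) {k : ℕ}
    (h : (a * b) ^ (2 * k + 1) = 1) : (a * b) ^ k * a * ((a * b) ^ k)⁻¹ = b := by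
  have ia : a⁻¹ = a := inv_eq_of_mul_eq_one_right ha
  have ib : b⁻¹ = b := inv_eq_of_mul_eq_one_right hb
  have e : a * (a * b) * a⁻¹ = (a * b)⁻¹ := by
    rw [mul_inv_rev, ia, ib, ← mul_assoc, ha, one_mul]
  have e2 : a * (a * b) ^ k * a⁻¹ = ((a * b) ^ k)⁻¹ := by rw [← conj_pow, e, inv_pow]
  have e3 : (a * b) ^ k * a = a * ((a * b) ^ k)⁻¹ := by
    rw [← e2, ← mul_assoc, ← mul_assoc, ha, one_mul, ia]
  have e4 : ((a * b) ^ k)⁻¹ * ((a * b) ^ k)⁻¹ = a * b := by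
    rw [← mul_inv_rev, ← pow_add, inv_eq_iff_mul_eq_one, ← pow_succ, ← two_mul, h]
  rw [e3, mul_assoc, e4, ← mul_assoc, ha, one_mul]

theorem E2_conj {F : Subgroup G} (hF : Odd (Nat.card F)) {t b : G} (ht : t * t = 1)
    (hn : t ∈ 𝐍(F)) (hb : b ∈ F) : ∃ y ∈ F, y * t = t * y ∧ IsConj (b * t) (t * y) := by
  obtain ⟨k, hk⟩ := hF
  have pw : ∀ x ∈ F, x ^ (2 * k + 1) = 1 := fun x hx => by
    rw [← hk]
    exact congrArg Subtype.val (pow_card_eq_one' (x := (⟨x, hx⟩ : F)))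
  have it : t⁻¹ = t := inv_eq_of_mul_eq_one_right ht
  have hd : (b * t) ^ 2 ∈ F := by
    have : (b * t) ^ 2 = b * (t * b * t⁻¹) := by rw [it, pow_two]; group
    rw [this]
    exact mul_mem hb ((mem_normalizer_iff.1 hn b).1 hb)
  obtain ⟨s, hs⟩ : ∃ s, s = (b * t) ^ (2 * k + 1) := ⟨_, rfl⟩
  have s2 : s * s = 1 := by rw [hs, ← pow_add, ← two_mul, pow_mul, pw _ hd]
  have st : s * t ∈ F := by
    rw [hs, pow_succ, pow_mul, mul_assoc, mul_assoc, ht, mul_one]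
    exact mul_mem (pow_mem hd k) hb
  have e := E2_dih s2 ht (pw _ st)
  have eF := pow_mem st k
  generalize (s * t) ^ k = e' at e eF
  have hy : s * (b * t) ∈ F := by
    rw [hs, ← pow_succ, show 2 * k + 1 + 1 = 2 * (k + 1) by ring, pow_mul]
    exact pow_mem hd _
  have c : s * (b * t) * s = s * (s * (b * t)) := by
    rw [mul_assoc s, hs, ← pow_succ', ← pow_succ]
  refine ⟨e' * (s * (b * t)) * e'⁻¹, mul_mem (mul_mem eF hy) (inv_mem eF), ?_, isConj_iff.2 ⟨e', ?_⟩⟩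
  · generalize s * (b * t) = y at c
    rw [← e, conj_mul, conj_mul, c]
  · generalize b * t = y
    rw [← e, conj_mul, ← mul_assoc s, s2, one_mul]

theorem Geo.e2 (h : Geo p q D) (hR : Rad G) {t : G} (ht : Plus D t)
    (hW : ∀ B ∈ D, ¬ B ≤ centralizer {t} →
      W (B ⊔ B ^ᶜ t) ⊓ centralizer {t} ≤ Cfsg.centralizerPPrimeCore 2 t) : False := by
  have hX : Xc D t ≤ Cfsg.centralizerPPrimeCore 2 t :=
    H1.le_map_subtype_pPrimeCore (Xc_le t) (h.toPts.cent_le_normalizer_Xc t)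
      ((h.odd_card (ht.sub hR)).coprime_two_right)
  obtain ⟨A, hA, -⟩ := ht.pt
  obtain ⟨a, ha, -, e⟩ := h.toPts.exists_gen hA
  refine char_false a t
    (h.eq_top_of_normal hA (e ▸ zpowers_le.2 (subset_normalClosure rfl))) ht.ord fun g => ?_
  have hB := h.inv A hA g
  have hb : g * a * g⁻¹ ∈ A ^ᶜ g := cj_mem g ha
  generalize g * a * g⁻¹ = b at hb
  generalize A ^ᶜ g = B at hB hb
  by_cases hc : B ≤ centralizer {t}
  · exact ⟨b, hX (le_Xc hB hc hb), by rw [mem_centralizer_singleton_iff.1 (hc hb)]⟩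
  obtain ⟨hF, hn⟩ := h.sub_cj_pair hB ht.mul_self
  obtain ⟨y, hy, y1, y2⟩ := E2_conj (h.odd_card hF) ht.mul_self hn (mem_sup_left hb)
  obtain ⟨C, hC, C1, C2⟩ := h.plus_pt hF ht hn
  obtain ⟨u, hu, c, hc', rfl⟩ := h.exists_mul hF hC C1 hy
  have ut : u ∈ centralizer {t} :=
    (mul_mem_cancel_right (C2 hc')).1 (mem_centralizer_singleton_iff.2 y1)
  obtain ⟨u', hu', w, hw, rfl⟩ := h.cent_split hF hC C1 C2 hu ut
  exact ⟨_, mul_mem (mul_mem (hX (comm_le _ hu'.1)) (hW B hB hc hw)) (hX (le_Xc hC C2 hc')), y2⟩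

end H42F
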