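import Mathlib
import Cfsg.Agent.Base
import Cfsg.Agent.Lib.FSet.Defs
import Cfsg.Agent.Lib.FSet.Bas
import Cfsg.Agent.S0205
import Cfsg.Agent.S0215

set_option autoImplicit false
set_option linter.unusedSectionVars false

namespace H42F

open Subgroup H69
open scoped commutatorElement

variable {G : Type*} [Group G] [Finite G] {D : Set (Subgroup G)} {p q : ℕ}

theorem e3b_iso {t : G} (tt : t * t = 1) (iso : ∀ y, IsConj t y → t * y = y * t → y = t) :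
    ∀ (k : ℕ) (y : G), IsConj t y → (t * y) ^ 2 ^ k = 1 → y = t := by
  have ti : t⁻¹ = t := inv_eq_of_mul_eq_one_right tt
  intro k
  induction k with
  | zero => intro y _ e; rw [pow_zero, pow_one] at e; rw [← ti]; exact eq_inv_of_mul_eq_one_right e
  | succ k ih =>
    intro y hy e
    have yy : y * y = 1 := by
      obtain ⟨c, rfl⟩ := isConj_iff.1 hy
      rw [conj_mul, tt, mul_one, mul_inv_cancel]
    have := ih (y * t * y⁻¹) (isConj_iff.2 ⟨y, rfl⟩) (by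
      rw [inv_eq_of_mul_eq_one_right yy, ← e, pow_succ', pow_mul, pow_two]; congr 1; group)
    exact iso y hy (mul_inv_eq_iff_eq_mul.1 this).symm

/-- an element of a `t`-invariant group of odd order is inverted times centralized -/
theorem e3b_split {K : Subgroup G} (hK : Odd (Nat.card K)) {t u : G} (tt : t * t = 1) (hn : t ∈ 𝐍(K))
    (hu : u ∈ K) : ∃ i ∈ K, ∃ c ∈ K, c ∈ centralizer {t} ∧ u = i * c ∧ t * u * t⁻¹ = i⁻¹ * c := by
  have ti : t⁻¹ = t := inv_eq_of_mul_eq_one_right tt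
  obtain ⟨m, hm⟩ := hK
  have kK : u * (t * u⁻¹ * t⁻¹) ∈ K := mul_mem hu (conj_mem_of_mem_normalizer hn (inv_mem hu))
  have e1 : t * (u * (t * u⁻¹ * t⁻¹)) * t⁻¹ = (u * (t * u⁻¹ * t⁻¹))⁻¹ := by
    calc _ = t * u * (t * t) * t⁻¹ * u⁻¹ * (t * t)⁻¹ := by group
      _ = _ := by rw [tt]; group
  have e2 : t * u * t⁻¹ = (u * (t * u⁻¹ * t⁻¹))⁻¹ * u := by group
  generalize u * (t * u⁻¹ * t⁻¹) = k at kK e1 e2
  have e3 : k ^ (m + 1) * k ^ (m + 1) = k := by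
    have : k ^ Nat.card K = 1 := congrArg Subtype.val (pow_card_eq_one' (x := (⟨k, kK⟩ : K)))
    rw [← pow_add, show m + 1 + (m + 1) = 2 * m + 1 + 1 by ring, ← hm, pow_succ, this, one_mul]
  have e4 : t * k ^ (m + 1) * t⁻¹ = (k ^ (m + 1))⁻¹ := by rw [← conj_pow, e1, inv_pow]
  have iK := pow_mem kK (m + 1)
  generalize k ^ (m + 1) = i at e3 e4 iK
  subst e3
  refine ⟨i, iK, i⁻¹ * u, mul_mem (inv_mem iK) hu, mem_centralizer_singleton_iff.2 ?_, by group,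
    by rw [e2]; group⟩
  refine (mul_inv_eq_iff_eq_mul.1 ?_).symm
  rw [← conj_mul, ← conj_inv, e4, e2]
  group

theorem e3b_a (h : Geo p q D) (hR : Rad G) {t : G} (ht : Plus D t) (hQ : ⁅Xc D t, Xc D t⁆ = ⊥)
    {A B : Subgroup G} (hA : A ∈ D) (hAt : A ≤ centralizer {t}) (hB : B ∈ D) {u : G}
    (hu : u ∈ ⁅A ⊔ B, A ⊔ B⁆) (e : B = A ^ᶜ u) : B ^ᶜ t = A ^ᶜ u⁻¹ := by
  have XA := h.eq_pt (ht.sub hR) hA (le_Xc hA hAt) hQ
  obtain ⟨hF, tF⟩ := h.sub_cj_pair hB ht.mul_self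
  obtain ⟨C, hC, CF, Ct⟩ := h.plus_pt hF ht tF
  have CA : C = A := h.toPts.eq_of_le hC hA (XA ▸ le_Xc hC Ct)
  subst CA
  have le : C ⊔ B ≤ B ⊔ B ^ᶜ t := sup_le CF le_sup_left
  generalize B ⊔ B ^ᶜ t = F at hF tF CF le
  obtain ⟨i, iQ, c, cQ, ct, e1, e2⟩ := e3b_split
    ((h.odd_card hF).of_dvd_nat (card_dvd_of_le (comm_le F))) ht.mul_self (normalizer_le_comm F tF)
    (commutator_mono le le hu)
  obtain ⟨u', hu', w, hw, e3⟩ := h.cent_split hF hC CF Ct cQ ct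
  rw [hQ, bot_inf_eq, mem_bot] at hu'
  rw [hu', one_mul] at e3
  have cF : c ∈ 𝐂(F) := e3 ▸ W_le_cent F hw.1
  have tC : C ^ᶜ t = C := cj_eq_of_mem_centralizer (le_centralizer_singleton_iff.1 Ct)
  have cC : C ^ᶜ c = C := cj_eq_of_mem_centralizer (centralizer_anti CF cF)
  calc B ^ᶜ t = (C ^ᶜ t) ^ᶜ (t * u * t⁻¹) := by rw [e, cj_cj, cj_cj, inv_mul_cancel_right]
    _ = C ^ᶜ i⁻¹ := by rw [tC, e2, ← cj_cj, cC]
    _ = (C ^ᶜ i⁻¹) ^ᶜ c⁻¹ := (cj_eq_of_mem_centralizer (inv_mem (centralizer_anti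
        (cj_le_of_mem CF (inv_mem (comm_le F iQ))) cF))).symm
    _ = _ := by rw [cj_cj, e1, mul_inv_rev]

theorem Geo.Q_ne_bot (h : Geo p q D) (hR : Rad G) {t : G} (ht : Plus D t) : ⁅Xc D t, Xc D t⁆ ≠ ⊥ := by
  intro hQ
  obtain ⟨A, hA, hAt⟩ := ht.pt
  have XA := h.eq_pt (ht.sub hR) hA (le_Xc hA hAt) hQ
  have tt := ht.mul_self
  have iso : ∀ y, IsConj t y → t * y = y * t → y = t := fun y hy c => by
    obtain ⟨g, rfl⟩ := isConj_iff.1 hy
    have ht' := h.toPts.plus_cj ht g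
    have hQ' : ⁅Xc D (g * t * g⁻¹), Xc D (g * t * g⁻¹)⁆ = ⊥ := by
      rw [← h.toPts.cj_Xc, ← cj_commutator, hQ, cj_bot]
    generalize g * t * g⁻¹ = y at ht' hQ' c
    obtain ⟨A', hA', hAy⟩ := ht'.pt
    have yA : y ∈ 𝐂(A) := h.cent_of_norm hA' hA (le_centralizer_singleton_iff.1 hAy)
      (XA ▸ h.toPts.cent_le_normalizer_Xc t (mem_centralizer_singleton_iff.2 c.symm))
    have cA : t⁻¹ * y ∈ 𝐂(A) := mul_mem (inv_mem (le_centralizer_singleton_iff.1 hAt)) yA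
    have all : (⊤ : Subgroup G) ≤ centralizer {t⁻¹ * y} := by
      rw [← h.top]
      refine sSup_le fun B hB => le_centralizer_singleton_iff.2 (h.cent_of_norm hA hB cA ?_)
      obtain ⟨u, hu, e⟩ := h.pt_conj (h.sub_pair hA hB) hA hB le_sup_left le_sup_right
      rw [← cj_eq_self_iff, ← cj_cj, e3b_a h hR ht' hQ' hA (le_centralizer_singleton_iff.2 yA) hB hu e,
        ← e3b_a h hR ht hQ hA hAt hB hu e, cj_cj_inv]
    by_contra ne
    exact centralizer_ne_top (hR.not_mem_center fun e => ne (inv_mul_eq_one.1 e).symm) (top_le_iff.1 all)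
  have : Fact (Nat.Prime 2) := ⟨Nat.prime_two⟩
  obtain ⟨P, hP⟩ := (IsPGroup.of_card (p := 2) (n := 1) (G := zpowers t)
    (by rw [Nat.card_zpowers, ht.ord, pow_one])).exists_le_sylow
  have tP : t ∈ P := hP (mem_zpowers t)
  obtain ⟨N, hN, odd, hc⟩ := Cfsg.Agent.S0215.result P t ht.ord tP fun g hg => by
    obtain ⟨k, hk⟩ := P.isPGroup' ⟨_, mul_mem tP hg⟩
    exact e3b_iso tt iso k _ (isConj_iff.2 ⟨g, rfl⟩) (congrArg Subtype.val hk)
  rw [hR N hN (Cfsg.Agent.S0205.result odd)] at hc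
  refine hR.not_mem_center ht.ne_one (mem_center_iff.2 fun g => ?_)
  have := mem_bot.1 (hc g)
  rw [mul_inv_eq_one, mul_inv_eq_iff_eq_mul] at this
  exact this.symm

end H42F
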