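import Mathlib
import Cfsg.Agent.Base
import Cfsg.Agent.Lib.FSet.Defs
import Cfsg.Agent.Lib.FSet.Blk
import Cfsg.Agent.Lib.FSet.E2
import Cfsg.Agent.Lib.FSet.E3b

set_option autoImplicit false
set_option linter.unusedSectionVars false

namespace H42F

open Subgroup H69
open scoped commutatorElement

variable {G : Type*} [Group G] [Finite G] {D : Set (Subgroup G)} {p q : ℕ}

theorem E4.key (h : Hard p q D) {t : G} (ht : Plus D t) {B : Subgroup G} (hB : B ∈ D) {w : G}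
    (hw : w ∈ W (B ⊔ B ^ᶜ t) ⊓ centralizer {t}) (h1 : w ≠ 1) : Bt D t (Xc D w) ∧ w ∈ W (Xc D w) := by
  obtain ⟨hF, htF⟩ := h.sub_cj_pair hB ht.mul_self
  obtain ⟨k1, -, k3⟩ := h.blk_Xc hF hw.1 (h.rad.not_mem_center h1)
  obtain ⟨C, hC, hCF, hCt⟩ := h.plus_pt hF ht htF
  have k := h.fix _ (Xc D t) C w hF (ht.sub h.rad) hC hw.1 (fun e => h1 (mem_bot.1 e))
    (h.cent_le_normalizer_Xc t hw.2) (le_Xc hC hCt) (hCF.trans (le_cent_of_mem_W hw.1))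
  refine ⟨⟨k1, (ht.sub h.rad).le_gen k,
    h.cent_le_normalizer_Xc w (mem_centralizer_singleton_comm.1 hw.2), fun e => h1 ?_⟩, k3⟩
  exact mem_bot.1 (e ▸ (⟨k3, hw.2⟩ : w ∈ W (Xc D w) ⊓ centralizer {t}))

theorem Hard.nb1 (h : Hard p q D) {t : G} (ht : Plus D t) : ∃ B, Bt D t B := by
  by_contra hn
  refine h.e2 h.rad ht fun B hB _ w hw => ?_
  by_cases h1 : w = 1
  · rw [h1]; exact one_mem _
  · exact absurd ⟨_, (E4.key h ht hB hw h1).1⟩ hn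

theorem Hard.nb2 (h : Hard p q D) {t : G} (ht : Plus D t) {B : Subgroup G} (hB : Blk D B) (hle : Xc D t ≤ B) :
    ¬ centralizer {t} ≤ 𝐍(B) := by
  intro hn
  have hK : W B ⊓ centralizer {t} ≤ Cfsg.centralizerPPrimeCore 2 t :=
    H1.le_map_subtype_pPrimeCore inf_le_right
      (le_normalizer_inf (hn.trans (normalizer_le_W B)) le_normalizer)
      (Nat.coprime_two_right.2 ((h.odd_card hB.sub).of_dvd_nat
        (card_dvd_of_le (inf_le_left.trans (W_le B)))))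
  refine h.e2 h.rad ht fun B0 hB0 _ w hw => ?_
  by_cases h1 : w = 1
  · rw [h1]; exact one_mem _
  obtain ⟨k1, k2⟩ := E4.key h ht hB0 hw h1
  obtain ⟨A, hA, hAt⟩ := (ht.sub h.rad).pt
  have e := h.blk_unique k1.blk hB k2 h1 (hn hw.2) hA (hAt.trans k1.le) (hAt.trans hle)
  exact hK ⟨e ▸ k2, hw.2⟩

theorem Hard.fl (h : Hard p q D) {t : G} (ht : Plus D t) : Fl D (Yq D (Xc D t)) ∧ Xc D t ≤ Yq D (Xc D t) := by
  have hX := ht.sub h.rad
  have hQ := h.Q_ne_bot h.rad ht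
  obtain ⟨hY, hXY⟩ := h.Yq_sub hX hQ
  obtain ⟨B, hB⟩ := h.nb1 ht
  obtain ⟨c, hc, hcB⟩ := SetLike.not_le_iff_exists.1 (h.nb2 ht hB.blk hB.le)
  have hB' := h.blk_cj hB.blk c
  have hne : B ≠ B ^ᶜ c := fun e => hcB (cj_eq_self_iff.1 e.symm)
  have hXB' : Xc D t ≤ B ^ᶜ c := by
    rw [← cj_eq_of_mem_normalizer (h.cent_le_normalizer_Xc t hc)]
    exact cj_mono c hB.le
  have y1 := h.Yq_le hX hQ hB.blk hB.le
  have y2 := h.Yq_le hX hQ hB' hXB'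
  have hW : ∀ Y, Sub D Y → Y ≤ B → Y ≤ B ^ᶜ c → W Y = ⊥ := fun Y k k1 k2 =>
    le_bot_iff.1 (h.rad.center_eq_bot ▸ h.W_le_center k hB.blk hB' hne k1 k2)
  refine ⟨⟨hY, hW _ hY y1 y2, fun e => hQ (le_bot_iff.1 (e ▸ commutator_mono hXY hXY)),
    fun I hI hIY hQI => ?_, B, _, hB.blk, hB', hne, y1, y2⟩, hXY⟩
  have k := h.le_Yq hI hY (hW _ hY y1 y2) hIY
  have hI' := (h.Yq_sub hI hQI).1
  exact le_antisymm (h.le_Yq hX hI' (hW _ hI' (h.Yq_le hI hQI hB.blk (hIY.trans y1))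
    (h.Yq_le hI hQI hB' (hIY.trans y2))) (hXY.trans k)) k

theorem Hard.k3 (h : Hard p q D) {Y : Subgroup G} (hY : Fl D Y) {s : G} (hs : orderOf s = 2) (hsY : s ∈ 𝐂(Y)) :
    Plus D s ∧ Xc D s = Y := by
  have hYs : Y ≤ centralizer {s} := le_centralizer_singleton_iff.2 hsY
  obtain ⟨A, hA, hAY⟩ := hY.sub.pt
  have hP : Plus D s := ⟨hs, A, hA, hAY.trans hYs⟩
  have k : Y ≤ Xc D s := hY.sub.le_gen hYs
  obtain ⟨hF, hle⟩ := h.fl hP
  refine ⟨hP, le_antisymm ?_ k⟩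
  rw [← hF.fl Y hY.sub (k.trans hle) hY.q, hY.fl Y hY.sub le_rfl hY.q] at hle
  exact hle

end H42F
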