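import Mathlib
import Cfsg.Agent.Base
import Cfsg.Agent.Lib.FSet.Defs
import Cfsg.Agent.Lib.FSet.E4
import Cfsg.Agent.Lib.FSet.Bas
import Cfsg.Agent.Lib.FGS.CyclicAux

set_option autoImplicit false
set_option linter.unusedSectionVars false

namespace H42F

open Subgroup H69
open scoped commutatorElement

variable {G : Type*} [Group G] [Finite G] {D : Set (Subgroup G)} {p q : ℕ}

theorem K1_coprime (h : Geo p q D) {t : G} (ht : Plus D t) {B T : Subgroup G} (hB : Sub D B) (hT : T ≤ B) :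
    (Nat.card (zpowers t)).Coprime (Nat.card T) := by
  rw [Nat.card_zpowers, ht.ord]
  exact Nat.coprime_two_left.2 (Odd.of_dvd_nat (h.odd_card hB) (card_dvd_of_le hT))

theorem Hard.k1 (h : Hard p q D) {t : G} (ht : Plus D t) {B : Subgroup G} (hB : Bt D t B) :
    ¬ W B ≤ centralizer {t} := by
  intro hW
  obtain ⟨A, hA, hAt⟩ := ht.pt
  have hsB : Sub D B := hB.blk.sub
  have hAX : A ≤ Xc D t := le_Xc hA hAt
  have hTQ : ⁅Xc D t, Xc D t⁆ ≤ ⁅B, B⁆ := commutator_mono hB.le hB.le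
  have hTt : ⁅Xc D t, Xc D t⁆ ≤ 𝐂(zpowers t) := by
    rw [centralizer_zpowers]
    exact (comm_le _).trans (Xc_le t)
  have hQQ : ⁅⁅B, B⁆, ⁅B, B⁆⁆ ≤ W B := le_inf (comm_le _) (h.cl2 B hsB)
  have hn : ∀ K : Subgroup G, K ≤ 𝐍((⊥ : Subgroup G)) := fun K => by
    rw [normalizer_eq_top]
    exact le_top
  have h3 : ⁅⁅⁅B, B⁆, zpowers t⁆, ⁅Xc D t, Xc D t⁆⁆ ≤ ⊥ := by
    refine three_subgroups (hn _) (hn _) (hn _) ?_ ?_
    · rw [commutator_comm (zpowers t), commutator_eq_bot_of_le_centralizer hTt, commutator_bot_left]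
    · refine (commutator_eq_bot_of_le_centralizer ?_).le
      rw [centralizer_zpowers]
      exact ((commutator_mono hTQ le_rfl).trans hQQ).trans hW
  have hZ : zpowers t ≤ 𝐍(⁅B, B⁆) := zpowers_le.2 (normalizer_le_comm B hB.norm)
  have hsp := H2.commutator_sup_centralizer hZ (K1_coprime h.toGeo ht hsB (comm_le B))
    (Or.inl (H2.isSolvable_zpowers t))
  have hQN : ⁅B, B⁆ ≤ 𝐍(⁅Xc D t, Xc D t⁆) := by
    refine hsp.symm.le.trans (sup_le ?_ ?_)
    · exact le_normalizer_of_le_centralizer (le_centralizer_of_commutator_eq_bot (le_bot_iff.1 h3))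
    · refine inf_le_right.trans ?_
      rw [centralizer_zpowers]
      exact (h.toPts.cent_le_normalizer_Xc t).trans (normalizer_le_comm _)
  have hBN : B ≤ 𝐍(⁅Xc D t, Xc D t⁆) :=
    (h.toGeo.eq_Q_sup hsB hA (hAX.trans hB.le)).symm.le.trans
      (sup_le hQN (hAX.trans (le_normalizer_comm _)))
  have hBY : B ≤ Yq D (Xc D t) := hsB.le_gen hBN
  have hF := (h.fl ht).1
  have := h.toGeo.W_mono hsB hF.sub hBY
  rw [hF.w] at this
  exact hB.blk.w (le_bot_iff.1 this)

theorem Hard.k1c (h : Hard p q D) {t : G} (ht : Plus D t) {B : Subgroup G} (hB : Bt D t B) : ¬ IsCyclic (W B) := by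
  intro hc
  haveI : Fact q.Prime := ⟨h.qprime⟩
  have hsB : Sub D B := hB.blk.sub
  have hZ : zpowers t ≤ 𝐍(W B) := zpowers_le.2 (normalizer_le_W B hB.norm)
  have hd := H2.commutator_inf_centralizer_eq_bot (V := W B) inferInstance hZ
    (K1_coprime h.toGeo ht hsB (W_le B))
  rw [centralizer_zpowers] at hd
  have hle : ⁅W B, zpowers t⁆ ≤ W B := commutator_le_left_of_le_normalizer hZ
  rcases H80.le_total_of_isCyclic_of_isPGroup hc (h.toGeo.isPGroup_W hsB) hle
    (inf_le_left : W B ⊓ centralizer {t} ≤ W B) with h1 | h1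
  · apply h.k1 ht hB
    rw [← centralizer_zpowers]
    apply le_centralizer_of_commutator_eq_bot
    exact le_bot_iff.1 ((le_inf le_rfl (h1.trans inf_le_right)).trans hd.le)
  · exact hB.w (le_bot_iff.1 ((le_inf h1 inf_le_right).trans hd.le))

end H42F
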