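import Mathlib
import Cfsg.Agent.Base
import Cfsg.Agent.Lib.FSet.Defs
import Cfsg.Agent.Lib.FSet.Blk

set_option autoImplicit false
set_option linter.unusedSectionVars false

namespace H42F

open Subgroup H69
open scoped commutatorElement

variable {G : Type*} [Group G] [Finite G] {D : Set (Subgroup G)} {p q : ℕ}

theorem Hard.k2 (h : Hard p q D) {Y B O : Subgroup G} (hY : Fl D Y) (hB : Blk D B) (hYB : Y ≤ B)
    (hnc : ¬ IsCyclic (W B)) (hO : O ≤ 𝐂(Y)) (hn : 𝐂(Y) ≤ 𝐍(O)) (hs : Group.IsSolvable O) : W B ⊓ O = ⊥ := by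
  haveI := Fact.mk h.qprime
  obtain ⟨A, hA, hAY⟩ := hY.sub.pt
  have WK : ∀ B1, Y ≤ B1 → W B1 ≤ 𝐂(Y) := fun B1 e => (W_le_cent B1).trans (centralizer_anti e)
  have KN : ∀ r, 𝐂(Y) ≤ 𝐍(Cfsg.pCoreOf r O) := fun r => hn.trans (H1.normalizer_le_normalizer_pCoreOf O)
  have nq : ∀ B1, Blk D B1 → Y ≤ B1 → Cfsg.pCoreOf q O ≤ 𝐍(B1) := fun B1 h1 e => by
    refine le_sup_right.trans (h.pgroup_norm (P := W B1 ⊔ Cfsg.pCoreOf q O) h1 hA (hAY.trans e) h.qprime
      (isPGroup_sup_of_le_normalizer_right (h.toGeo.isPGroup_W h1.sub) (H1.isPGroup_pCoreOf O)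
        ((WK B1 e).trans (KN q))) ?_ ?_)
    · exact (sup_le (WK B1 e) ((H1.pCoreOf_le O).trans hO)).trans
        ((centralizer_anti hAY).trans (centralizer_le_normalizer _))
    · rw [inf_eq_right.2 le_sup_left]; exact h1.w
  have dq : Cfsg.pCoreOf q O ⊓ W B = ⊥ := by
    obtain ⟨B', hB', ne, le⟩ : ∃ B', Blk D B' ∧ B' ≠ B ∧ Y ≤ B' := by
      obtain ⟨B1, B2, h1, h2, ne, l1, l2⟩ := hY.two
      by_cases e : B1 = B
      · exact ⟨B2, h2, fun e' => ne (e.trans e'.symm), l2⟩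
      · exact ⟨B1, h1, e, l1⟩
    refine eq_bot_iff.2 fun w hw => mem_bot.2 (by_contra fun w1 => ne ?_)
    exact h.blk_unique hB hB' hw.2 w1 (nq B' hB' le hw.1) hA (hAY.trans hYB) (hAY.trans le)
  have ce : ∀ r : Nat.Primes, Cfsg.pCoreOf (r : ℕ) O ≤ 𝐂(W B) := fun r => by
    haveI := Fact.mk r.2
    have k : Cfsg.pCoreOf (r : ℕ) O ≤ 𝐍(B) ∧ Cfsg.pCoreOf (r : ℕ) O ⊓ W B = ⊥ := by
      by_cases e : (r : ℕ) = q
      · rw [e]; exact ⟨nq B hB hYB, dq⟩
      · refine ⟨H2.le_of_forall_centralizer_le (A := W B) (le_centralizer_iff_isMulCommutative.1 (W_le_cent_W B))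
          hnc ((WK B hYB).trans (KN r)) ?_ fun a ha a1 =>
            inf_le_right.trans (h.toGeo.cent_le_norm hB ha (h.rad.not_mem_center a1)), ?_⟩
        · exact IsPGroup.coprime_card_of_ne q r (Ne.symm e) _ _ (h.toGeo.isPGroup_W hB.sub)
            (H1.isPGroup_pCoreOf O)
        · exact disjoint_iff.1 (IsPGroup.disjoint_of_ne r q e _ _ (H1.isPGroup_pCoreOf O)
            (h.toGeo.isPGroup_W hB.sub))
    rw [← commutator_eq_bot_iff_le_centralizer, eq_bot_iff, ← k.2]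
    exact le_inf (commutator_le_left_of_le_normalizer ((WK B hYB).trans (KN r)))
      (commutator_le_right_of_le_normalizer (k.1.trans (normalizer_le_W B)))
  have hF : W B ⊓ O ≤ Cfsg.fittingOf O := by
    refine (le_inf inf_le_right (inf_le_left.trans ?_)).trans (H1.inf_centralizer_fittingOf_le hs)
    rw [le_centralizer_iff, H1.fittingOf_eq_iSup_pCoreOf]
    exact iSup_le ce
  have e : ((W B ⊓ O).subgroupOf O).map O.subtype = W B ⊓ O := by
    rw [subgroupOf_map_subtype, inf_assoc, inf_idem]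
  have hq : (W B ⊓ O).subgroupOf O ≤ Cfsg.pCore q O := by
    refine H1.le_pCore_of_le_fitting (h.toGeo.isPGroup_W hB.sub).to_inf_left.comap_subtype ?_
    rw [← map_le_map_iff_of_injective O.subtype_injective, e, ← H1.fittingOf_def]
    exact hF
  rw [eq_bot_iff, ← dq]
  exact le_inf (e.symm.le.trans (map_mono hq)) inf_le_left

end H42F
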