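import Mathlib
import Cfsg.Agent.Base
import Cfsg.Agent.Lib.FSet.Defs
import Cfsg.Agent.Lib.FSet.E3
import Cfsg.Agent.Lib.FSet.E4
import Cfsg.Agent.Lib.FSet.K1
import Cfsg.Agent.Lib.FSet.K2
import Cfsg.Agent.S0205
import Cfsg.Agent.S0225

set_option autoImplicit false
set_option linter.unusedSectionVars false

namespace H42F

open Subgroup H69
open scoped commutatorElement

variable {G : Type*} [Group G] [Finite G] {D : Set (Subgroup G)} {p q : ℕ}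

theorem Hard.exists_fl (h : Hard p q D) : ∃ Y, Fl D Y ∧ ¬ Group.IsSolvable 𝐂(Y) := by
  obtain ⟨t, ht⟩ := h.exists_plus h.rad
  obtain ⟨B, hB⟩ := h.nb1 ht
  have hY := (h.fl ht).1
  have hYB := h.Yq_le (ht.sub h.rad) (h.Q_ne_bot h.rad ht) hB.blk hB.le
  refine ⟨_, hY, fun hs => hB.blk.w ?_⟩
  have := h.k2 hY hB.blk hYB (h.k1c ht hB) le_rfl le_normalizer hs
  rwa [inf_eq_left.2 ((W_le_cent B).trans (centralizer_anti hYB))] at this

theorem K4.exists_inv {K : Subgroup G} (h : ¬ Odd (Nat.card K)) : ∃ s ∈ K, orderOf s = 2 := by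
  have : Fact (Nat.Prime 2) := ⟨Nat.prime_two⟩
  obtain ⟨s, hs⟩ := exists_prime_orderOf_dvd_card' (G := K) 2 (Nat.not_odd_iff_even.1 h).two_dvd
  exact ⟨s, s.2, by rw [orderOf_coe, hs]⟩

theorem Hard.k4 (h : Hard p q D) {Y : Subgroup G} (hY : Fl D Y) (hns : ¬ Group.IsSolvable 𝐂(Y)) :
    Cfsg.IsTightlyEmbedded 𝐂(Y) ∧ 𝐍(𝐂(Y)) = 𝐍(Y) ∧ 𝐍(Y) ≠ ⊤ := by
  have ho : ¬ Odd (Nat.card 𝐂(Y)) := fun e => hns (Cfsg.Agent.S0205.result e)
  obtain ⟨s, hs, s2⟩ := K4.exists_inv ho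
  have hN : 𝐍(𝐂(Y)) = 𝐍(Y) := by
    refine le_antisymm ?_ (normalizer_le_normalizer_centralizer Y)
    have e : gen D 𝐂(𝐂(Y)) = Y := by
      refine le_antisymm ?_ (hY.sub.le_gen (le_centralizer_iff.1 le_rfl))
      refine le_trans (gen_mono ?_) (h.k3 hY s2 hs).2.le
      rw [← centralizer_zpowers]
      exact centralizer_anti (zpowers_le.2 hs)
    refine (normalizer_le_normalizer_centralizer _).trans ?_
    have := h.normalizer_le_gen 𝐂(𝐂(Y))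
    rwa [e] at this
  refine ⟨⟨Nat.not_odd_iff_even.1 ho, fun g hg => ?_⟩, hN, fun e => hY.q ?_⟩
  · by_contra hodd
    obtain ⟨u, ⟨hu, hu'⟩, u2⟩ := K4.exists_inv hodd
    obtain ⟨v, hv, rfl⟩ := mem_cj'.1 hu'
    have v2 : orderOf v = 2 := ((MulAut.conj g).orderOf_eq v).symm.trans u2
    refine hg (hN ▸ cj_eq_self_iff.1 ?_)
    have := h.cj_Xc v g
    rwa [(h.k3 hY v2 hv).2, (h.k3 hY u2 hu).2] at this
  · have := h.solv hY.sub
    exact h.rad _ (normal_iff_top_le_normalizer.2 (e ▸ normalizer_le_comm Y))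
      (Group.isSolvable_of_isSolvable_injective (inclusion_injective (comm_le Y)))

theorem Hard.k7 (h : Hard p q D) {Y : Subgroup G} (hY : Fl D Y) (hns : ¬ Group.IsSolvable 𝐂(Y)) :
    ∃ E : Subgroup G, E ≤ 𝐂(Y) ∧ IsKleinFour E := by
  by_contra hn
  have ho : ¬ Odd (Nat.card 𝐂(Y)) := fun e => hns (Cfsg.Agent.S0205.result e)
  obtain ⟨z, z2, N, hN, hodd, hz⟩ := Cfsg.Agent.S0225.result (G := 𝐂(Y)) (Nat.not_odd_iff_even.1 ho)
    fun E hE => hn ⟨E.map (𝐂(Y)).subtype, map_subtype_le E,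
      ⟨by rw [card_map_subtype]; exact hE.card_four, by
        rw [← Monoid.exponent_eq_of_mulEquiv (E.equivMapOfInjective _ (𝐂(Y)).subtype_injective)]
        exact hE.exponent_two⟩⟩
  obtain ⟨hP, hX⟩ := h.k3 hY (s := z) (by rw [orderOf_coe, z2]) z.2
  obtain ⟨B, hB⟩ := h.nb1 hP
  have hYB : Y ≤ B := hX ▸ hB.le
  have k := h.k2 hY hB.blk hYB (h.k1c hP hB) (map_subtype_le N) (normal_iff_le_normalizer_map.1 hN)
    (Cfsg.Agent.S0205.result (by rwa [card_map_subtype]))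
  refine h.k1 hP hB fun w hw => mem_centralizer_singleton_iff.2 ?_
  have hwK : w ∈ 𝐂(Y) := centralizer_anti hYB (W_le_cent B hw)
  have m : (z : G) * w * (z : G)⁻¹ * w⁻¹ ∈ W B ⊓ N.map (𝐂(Y)).subtype :=
    mem_inf.2 ⟨mul_mem (conj_mem_of_mem_normalizer (normalizer_le_W B hB.norm) hw) (inv_mem hw),
      _, hz ⟨w, hwK⟩, rfl⟩
  rw [k, mem_bot, mul_inv_eq_one, mul_inv_eq_iff_eq_mul] at m
  exact m.symm

end H42F
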