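import Mathlib
import Cfsg.Agent.Base
import Cfsg.Agent.Lib.FSet.Defs
import Cfsg.Agent.Lib.FSet.E4

set_option autoImplicit false
set_option linter.unusedSectionVars false

namespace H42F

open Subgroup H69
open scoped commutatorElement

variable {G : Type*} [Group G] [Finite G] {D : Set (Subgroup G)} {p q : ℕ}

theorem K5_ord {E : Subgroup G} (hE : IsKleinFour E) {s : G} (hs : s ∈ E) (h1 : s ≠ 1) :
    orderOf s = 2 := by
  refine orderOf_eq_prime ?_ h1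
  have := Monoid.pow_exponent_eq_one (⟨s, hs⟩ : E)
  rw [hE.exponent_two] at this
  exact congrArg Subtype.val this

theorem Hard.K5_le (h : Hard p q D) {Y E X C : Subgroup G} (hY : Fl D Y) (hE : IsKleinFour E)
    (h1 : E ≤ 𝐂(Y)) (hX : Sub D X) (h2 : E ≤ 𝐍(X)) (hC : C ∈ D) (hCX : C ≤ X) (hCY : C ≤ Y) :
    ⁅X, X⁆ ≤ Y ⊔ W X := by
  refine H2.le_of_forall_centralizer_le (A := E) IsKleinFour.isMulCommutative IsKleinFour.not_isCyclic
    (h2.trans (normalizer_le_comm X)) ?_ fun s hs s1 x hx => ?_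
  · have : Fact q.Prime := ⟨h.qprime⟩
    obtain ⟨n, hn⟩ := IsPGroup.iff_card.1 (h.loc X hX).L1
    rw [hE.card_four, hn]
    exact Nat.Coprime.pow 2 n ((Nat.coprime_primes Nat.prime_two h.qprime).2 h.qodd.symm)
  · obtain ⟨-, e⟩ := h.k3 hY (K5_ord hE hs s1) (h1 hs)
    obtain ⟨u, hu, w, hw, rfl⟩ := h.toGeo.cent_split hX hC hCX
      (hCY.trans (le_centralizer_singleton_iff.2 (h1 hs))) hx.1 hx.2
    exact mul_mem (mem_sup_left (comm_le _ (e ▸ hu.1))) (mem_sup_right hw.1)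

theorem Hard.k5 (h : Hard p q D) {Y E : Subgroup G} (hY : Fl D Y) {g : G} (hg : g ∉ 𝐍(Y)) (hE : IsKleinFour E)
    (h1 : E ≤ 𝐂(Y)) (h2 : E ≤ 𝐍(Y ^ᶜ g)) : False := by
  have hX := h.toPts.sub_cj hY.sub g
  obtain ⟨C, hC, C1, C2⟩ := h.toGeo.fix_pt hX Nat.prime_two h.qodd.symm
    (IsPGroup.of_card (n := 2) hE.card_four) h2
  obtain ⟨A, hA, hAY⟩ := hY.sub.pt
  have hCY : C ≤ Y := by
    have : Nontrivial E := Finite.one_lt_card_iff_nontrivial.1 (by rw [hE.card_four]; norm_num)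
    obtain ⟨⟨s, hs⟩, s1⟩ := exists_ne (1 : E)
    obtain ⟨-, e⟩ := h.k3 hY (K5_ord hE hs fun e => s1 (Subtype.ext e)) (h1 hs)
    rw [← e]
    exact le_Xc hC (le_centralizer_singleton_iff.2
      (h.toGeo.cent_of_norm hA hC (centralizer_anti hAY (h1 hs)) (C2 hs)))
  have := h.K5_le hY hE h1 hX h2 hC C1 hCY
  rw [← cj_W, hY.w, cj_bot, sup_bot_eq] at this
  exact hg (mem_normalizer_of_cj_le ((h.toGeo.eq_Q_sup hX hC C1).symm.le.trans (sup_le this hCY)))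

theorem Hard.k6 (h : Hard p q D) {Y B E : Subgroup G} (hY : Fl D Y) (hB : Blk D B) (hYB : Y ≤ B)
    (hE : IsKleinFour E) (h1 : E ≤ 𝐂(Y)) (h2 : E ≤ 𝐍(B)) : False := by
  obtain ⟨A, hA, hAY⟩ := hY.sub.pt
  have := h.toGeo.le_of_Q_le hB.sub hA (hAY.trans hYB) hAY
    (h.K5_le hY hE h1 hB.sub h2 hA (hAY.trans hYB) hAY) hYB
  exact hB.w (le_bot_iff.1 (hY.w ▸ h.toGeo.W_mono hB.sub hY.sub this))

end H42F
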