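import Mathlib
import Cfsg.Agent.Base
import Cfsg.Agent.Lib.FSet.Defs
import Cfsg.Agent.Lib.FSet.E4
import Cfsg.Agent.Lib.FSet.K5
import Cfsg.Agent.Lib.Cls.Four
import Cfsg.Agent.Lib.Inv73.D8
import Cfsg.Agent.S0514

set_option autoImplicit false
set_option linter.unusedSectionVars false

namespace H42F

open Subgroup H69
open scoped commutatorElement

variable {G : Type*} [Group G] [Finite G] {D : Set (Subgroup G)} {p q : ℕ}

/-- a central involution and a four-group in a dihedral Sylow subgroup -/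
theorem K8_four {K : Subgroup G} (S : Sylow 2 ↥K) (n : ℕ) (hn : 2 ≤ n)
    (hS : Nonempty ((S : Subgroup ↥K) ≃* DihedralGroup n)) :
    ∃ (t : G) (E : Subgroup G), orderOf t = 2 ∧ t ∈ K ∧ IsKleinFour E ∧ E ≤ K ⊓ centralizer {t} := by
  have : Fact (Nat.Prime 2) := ⟨Nat.prime_two⟩
  obtain ⟨e⟩ := hS
  let e' : ↥((S : Subgroup K).map K.subtype) ≃* DihedralGroup n :=
    ((S : Subgroup K).equivMapOfInjective K.subtype K.subtype_injective).symm.trans e
  obtain ⟨a, b, d⟩ := H73.exists_dihData (by omega) e'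
  have hTK : (S : Subgroup K).map K.subtype ≤ K := map_subtype_le _
  obtain ⟨k, hk⟩ := IsPGroup.iff_card.1 (isSylowIn_map_subtype S).isP
  rw [d.card] at hk
  obtain ⟨m, rfl⟩ : ∃ m, n = 2 * m := by
    rcases k with _ | _ | k
    · omega
    · omega
    · exact ⟨2 ^ k, by rw [pow_succ, pow_succ] at hk; omega⟩
  have hm : m ≠ 0 := by omega
  have ht : orderOf (a ^ m) = 2 := by
    rw [orderOf_pow' a hm, d.ord, Nat.gcd_mul_left_left, Nat.mul_div_cancel _ (Nat.pos_of_ne_zero hm)]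
  have htt : a ^ m * a ^ m = 1 := by
    rw [← pow_add, ← two_mul, ← d.ord, pow_orderOf_eq_one]
  have ht1 : a ^ m ≠ 1 := by
    intro e
    rw [e, orderOf_one] at ht
    omega
  have hb1 : b ≠ 1 := fun e => d.notMem (e ▸ one_mem _)
  have htb : a ^ m ≠ b := fun e => d.notMem (e ▸ pow_mem (mem_zpowers a) m)
  have hc : a ^ m * b = b * a ^ m := by
    have h1 := d.conj_zpow (m : ℤ)
    rw [zpow_natCast, inv_eq_of_mul_eq_one_right htt] at h1
    rw [← h1]
    conv_rhs => rw [h1]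
    group
  refine ⟨a ^ m, _, ht, hTK (pow_mem d.a_mem m), H19.isKleinFour_closure_pair ht1 hb1 htb htt d.bb hc, ?_⟩
  rw [closure_le]
  rintro x (rfl | rfl)
  · exact ⟨hTK (pow_mem d.a_mem m), mem_centralizer_singleton_iff.2 rfl⟩
  · exact ⟨hTK d.b_mem, mem_centralizer_singleton_iff.2 hc.symm⟩

/-- the normal 2-complement of `C_K(t)` in the ambient group -/
theorem K8_compl {K : Subgroup G} (S : Sylow 2 ↥K) (n : ℕ) (hn : 2 ≤ n)
    (hS : Nonempty ((S : Subgroup ↥K) ≃* DihedralGroup n)) {t : G} (ht : orderOf t = 2) (htK : t ∈ K) :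
    ∃ N : Subgroup G, N ≤ K ⊓ centralizer {t} ∧ K ⊓ centralizer {t} ≤ 𝐍(N) ∧ Odd (Nat.card N) ∧
      ∀ x ∈ K ⊓ centralizer {t}, Odd (orderOf x) → x ∈ N := by
  let t' : K := ⟨t, htK⟩
  have ht' : orderOf t' = 2 := by rw [← ht]; exact (Subgroup.orderOf_coe t').symm
  obtain ⟨N, hN, ho, k, hk⟩ := Cfsg.Agent.S0514.result S n hn hS t' ht'
  have hC : (centralizer ({t'} : Set K)).map K.subtype = K ⊓ centralizer {t} := by
    rw [← centralizer_zpowers, map_subtype_centralizer, MonoidHom.map_zpowers, centralizer_zpowers]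
    rfl
  refine ⟨(N.map (centralizer ({t'} : Set K)).subtype).map K.subtype, ?_, ?_, ?_, ?_⟩
  · rw [← hC]
    exact map_mono (map_subtype_le _)
  · rw [← hC]
    refine (map_mono (normal_iff_le_normalizer_map.1 hN)).trans ?_
    rw [map_subtype_normalizer]
    exact inf_le_right
  · rwa [card_map_subtype, card_map_subtype]
  · intro x hx hox
    rw [← hC] at hx
    obtain ⟨y, hy, rfl⟩ := hx
    let z : centralizer ({t'} : Set K) := ⟨y, hy⟩
    have hz : z ^ 2 ^ k ∈ N := hk ▸ N.pow_index_mem z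
    have hoz : orderOf z = orderOf (K.subtype y) := by
      rw [← Subgroup.orderOf_coe z]
      exact (Subgroup.orderOf_coe y).symm
    have hzz : z ∈ zpowers (z ^ 2 ^ k) := by
      rw [mem_zpowers_pow_iff, hoz]
      exact Nat.Coprime.pow_left k ((Nat.coprime_two_left).2 hox)
    exact mem_map_of_mem _ (mem_map_of_mem _ (zpowers_le.2 hz hzz))

theorem Hard.k8 (h : Hard p q D) {Y : Subgroup G} (hY : Fl D Y) (S : Sylow 2 ↥𝐂(Y)) (n : ℕ) (hn : 2 ≤ n)
    (hS : Nonempty ((S : Subgroup ↥𝐂(Y)) ≃* DihedralGroup n)) : False := by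
  have : Fact (Nat.Prime 2) := ⟨Nat.prime_two⟩
  have : Fact q.Prime := ⟨h.qprime⟩
  obtain ⟨t, E0, ht, htK, hE0, hE0C⟩ := K8_four S n hn hS
  obtain ⟨N, hNC, hCN, hodd, hmem⟩ := K8_compl S n hn hS ht htK
  obtain ⟨hp, hXY⟩ := h.k3 hY ht htK
  obtain ⟨B, hB⟩ := h.nb1 hp
  have hYB : Y ≤ B := hXY ▸ hB.le
  obtain ⟨A, hA, hAY⟩ := hY.sub.pt
  have hWq : IsPGroup q (W B) := h.toGeo.isPGroup_W hB.blk.sub
  have hVq : IsPGroup q ↥(W B ⊓ centralizer {t}) := hWq.to_inf_left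
  have hVN : W B ⊓ centralizer {t} ≤ N := by
    intro x hx
    refine hmem x ⟨centralizer_anti hYB (W_le_cent B hx.1), hx.2⟩ ?_
    obtain ⟨j, hj⟩ := isPGroup_iff_mem.1 hWq x hx.1
    exact Odd.of_dvd_nat (Odd.pow (h.qprime.odd_of_ne_two h.qodd)) (orderOf_dvd_of_pow_eq_one hj)
  obtain ⟨P, hP, hVP⟩ := exists_isSylowIn_le hVq hVN
  have hKA : 𝐂(Y) ≤ 𝐍(A) := le_normalizer_of_le_centralizer (centralizer_anti hAY)
  have hPB : P ≤ 𝐍(B) := by
    refine h.pgroup_norm hB.blk hA (hAY.trans hYB) h.qprime hP.isP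
      (hP.le.trans (hNC.trans (inf_le_left.trans hKA))) fun e => hB.w (eq_bot_iff.2 ?_)
    rw [← e]
    exact le_inf hVP inf_le_left
  obtain ⟨⟨w, hw⟩, hw1⟩ := (ne_bot_iff_exists_ne_one).1 hB.w
  have hw1 : w ≠ 1 := fun e => hw1 (Subtype.ext e)
  have hM : ∀ x ∈ 𝐂(Y), x ∈ 𝐍(P) → x ∈ 𝐍(B) := by
    intro x hx hxP
    rw [← cj_eq_self_iff]
    refine h.blk_unique hB.blk (h.toPts.blk_cj hB.blk x) hw.1 hw1 ?_ hA (hAY.trans hYB) ?_
    · rw [← cj_normalizer]
      exact cj_mono x hPB (by rw [cj_eq_self_iff.2 hxP]; exact hVP hw)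
    · rw [← cj_eq_self_iff.2 (hKA hx)]
      exact cj_mono x (hAY.trans hYB)
  have hE2 := H19.isPGroup_of_isKleinFour hE0
  obtain ⟨k, hk, hk'⟩ := H2.exists_invariant_cj (hE0C.trans hCN)
    (by rw [hE0.card_four]; exact Nat.Coprime.pow_left 2 ((Nat.coprime_two_left).2 hodd))
    (Or.inl (H1.isSolvable_of_isPGroup hE2)) (H := P) (by
      intro a ha
      exact (hP.cj_of_mem_normalizer (hCN (hE0C ha))).conj hP)
  have hk'' : E0 ≤ 𝐍(P ^ᶜ k) := hk'
  have h1 : E0 ^ᶜ k⁻¹ ≤ 𝐂(Y) := cj_le_of_mem (hE0C.trans inf_le_left) (inv_mem (hNC hk).1)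
  have h2 : E0 ^ᶜ k⁻¹ ≤ 𝐍(P) := by
    rw [← le_cj_iff, cj_normalizer]
    exact hk''
  exact h.k6 hY hB.blk hYB (H19.isKleinFour_map hE0 (MulAut.conj k⁻¹).injective) h1
    fun x hx => hM x (h1 hx) (h2 hx)

end H42F
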