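import Mathlib
import Cfsg.Agent.Base
import Cfsg.Agent.Lib.FSet.Defs
import Cfsg.Agent.Lib.Cls.Four
import Cfsg.Agent.S1910

set_option autoImplicit false
set_option linter.unusedSectionVars false

namespace H42F

open Subgroup H69
open scoped commutatorElement

variable {G : Type*} [Group G] [Finite G]

theorem TA_mul_self {u : G} (hu : orderOf u = 2) : u * u = 1 := by
  have := pow_orderOf_eq_one u
  rwa [hu, pow_two] at this

theorem TA_ne_one {u : G} (hu : orderOf u = 2) : u ≠ 1 := by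
  intro e
  rw [e, orderOf_one] at hu
  omega

/-- an involution in `K ⊓ K ^ x` forces `x ∈ N(K)` -/
theorem TA_norm {K : Subgroup G} (hK : Cfsg.IsTightlyEmbedded K) {x v : G} (hv : orderOf v = 2) (h1 : v ∈ K)
    (h2 : v ∈ K ^ᶜ x) : x ∈ 𝐍(K) := by
  by_contra hx
  have ho := hK.2 x hx
  have hd : 2 ∣ Nat.card ↥(K ⊓ K ^ᶜ x) := by
    rw [← hv]
    exact Subgroup.orderOf_dvd_natCard _ (show v ∈ K ⊓ K ^ᶜ x from ⟨h1, h2⟩)
  exact (Nat.not_even_iff_odd.2 ho) (even_iff_two_dvd.2 hd)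

theorem exists_tcfg (K : Subgroup G) (hK : Cfsg.IsTightlyEmbedded K) {g : G} (hg : g ∉ 𝐍(K))
    (h4 : ∀ E : Subgroup G, E ≤ K ^ᶜ g → E ≤ 𝐍(K) → ¬ IsKleinFour E)
    (hE : ∃ E : Subgroup G, E ≤ K ∧ IsKleinFour E) (hev : ¬ Odd (Nat.card ↥(K ^ᶜ g ⊓ 𝐍(K)))) :
    ∃ (S T R : Subgroup G) (u : G), TCfg S T R u ∧ IsSylowIn 2 T K := by
  have : Fact (Nat.Prime 2) := ⟨Nat.prime_two⟩
  obtain ⟨R, hR⟩ := exists_isSylowIn 2 (K ^ᶜ g ⊓ 𝐍(K))
  have hR1 : R ≠ ⊥ := hR.dvd_card_iff.1 (even_iff_two_dvd.1 (Nat.not_odd_iff_even.1 hev))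
  have hRg : R ≤ K ^ᶜ g := hR.le.trans inf_le_left
  have hRN : R ≤ 𝐍(K) := hR.le.trans inf_le_right
  obtain ⟨u, hu, hu2⟩ := exists_orderOf_eq_prime (hR.isP.to_inf_left (K := 𝐂(R))) (center_ne_bot hR.isP hR1)
  obtain ⟨S, hS, hRS⟩ := exists_isSylowIn_le hR.isP (le_sup_right : R ≤ K ⊔ R)
  have hKR : K ⊔ R ≤ 𝐍(K) := sup_le le_normalizer hRN
  have hT : IsSylowIn 2 (S ⊓ K) K := hS.inf_normal le_sup_left hKR
  obtain ⟨d1, -, d3, -, d5⟩ := Cfsg.Agent.S1910.result K hK g hg R hR1 hR.le ⟨hR.isP, hR.not_dvd_relIndex⟩ S hRS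
    hS.le ⟨hS.isP, hS.not_dvd_relIndex⟩
  have e : S ⊓ K ⊓ 𝐍(R) = S ⊓ 𝐍(R) ⊓ K := inf_right_comm _ _ _
  refine ⟨S, S ⊓ K, R, u, ⟨hS.isP, inf_le_left, hRS, le_normalizer_inf le_normalizer (hS.le.trans hKR), ?_, ?_, hu.1,
    hu2, ?_, ?_, ?_, ?_, ?_⟩, hT⟩
  · have := dedekind_right (A := R) (B := K) (C := S) hRN hRS
    have h2 : S ≤ (R ⊔ K) ⊓ S := le_inf (hS.le.trans (by rw [sup_comm])) le_rfl
    rw [this, sup_comm, inf_comm] at h2
    exact h2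
  · exact eq_bot_iff.2 (d1 ▸ inf_le_inf le_rfl inf_le_right)
  · intro v hv hv2
    by_contra hne
    have hc : v * u = u * v := mem_centralizer_iff_commute.1 hu.2 v hv
    have hle : closure ({v, u} : Set G) ≤ R := by
      rw [closure_le]
      rintro x (rfl | rfl)
      · exact hv
      · exact hu.1
    exact h4 _ (hle.trans hRg) (hle.trans hRN)
      (H19.isKleinFour_closure_pair (TA_ne_one hv2) (TA_ne_one hu2) hne (TA_mul_self hv2) (TA_mul_self hu2) hc)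
  · rw [e]
    exact d3
  · rw [e]
    exact d5
  · intro c hc
    have hcu : c * u = u * c := mem_centralizer_singleton_iff.1 hc.2
    have huK : g⁻¹ * u * g ∈ K := mem_cj.1 (hRg hu.1)
    have ho : orderOf (g⁻¹ * u * g) = 2 := by
      rw [← hu2]
      simpa using (MulAut.conj g⁻¹).orderOf_eq u
    have hn : g⁻¹ * c * g ∈ 𝐍(K) := by
      refine TA_norm hK ho huK (mem_cj.2 ?_)
      have : (g⁻¹ * c * g)⁻¹ * (g⁻¹ * u * g) * (g⁻¹ * c * g) = g⁻¹ * u * g := by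
        calc (g⁻¹ * c * g)⁻¹ * (g⁻¹ * u * g) * (g⁻¹ * c * g) = g⁻¹ * (c⁻¹ * (u * c)) * g := by group
          _ = g⁻¹ * u * g := by rw [← hcu]; group
      rw [this]
      exact huK
    have hn2 : c ∈ 𝐍(K ^ᶜ g) := by
      rw [← cj_normalizer]
      exact mem_cj.2 hn
    have hcK : c ∈ 𝐍(𝐍(K)) := le_normalizer (le_normalizer hc.1.2)
    have hcS : c ∈ 𝐍(S) := le_normalizer hc.1.1
    have hRe : S ⊓ (K ^ᶜ g ⊓ 𝐍(K)) = R :=
      hR.max _ (le_inf hRS hR.le) inf_le_right hS.isP.to_inf_left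
    rw [← hRe, ← cj_eq_self_iff, cj_inf, cj_inf, cj_eq_self_iff.2 hcS, cj_eq_self_iff.2 hn2, cj_eq_self_iff.2 hcK]
  · obtain ⟨E, hEK, hE4⟩ := hE
    obtain ⟨k, -, hk⟩ := hT.exists_cj_le (H19.isPGroup_of_isKleinFour hE4) hEK
    exact ⟨_, hk, H19.isKleinFour_map hE4 (MulAut.conj k).injective⟩

end H42F
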