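import Mathlib
import Cfsg.Agent.Base
import Cfsg.Agent.Lib.FSet.Defs

set_option autoImplicit false
set_option linter.unusedSectionVars false

namespace H42F

open Subgroup H69
open scoped commutatorElement

variable {G : Type*} [Group G] [Finite G]

theorem TB_cyc {A : Type*} [CommGroup A] [Finite A] (hA : IsPGroup 2 A) (z : A)
    (h : ∀ a : A, a * a = 1 → a = 1 ∨ a = z) : IsCyclic A := by
  classical
  have := Fintype.ofFinite A
  refine isCyclic_of_card_pow_eq_one_le fun n hn => ?_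
  induction n using Nat.strong_induction_on with
  | _ n ih =>
  rcases Nat.even_or_odd' n with ⟨c, rfl | rfl⟩
  · have h1 := ih c (by omega) (by omega)
    refine le_trans (Finset.card_le_mul_card_image_of_maps_to (f := fun a : A => a * a)
      (t := Finset.univ.filter fun a : A => a ^ c = 1) ?_ 2 ?_) (by omega)
    · intro a ha
      simp only [Finset.mem_filter, Finset.mem_univ, true_and] at ha ⊢
      rw [← sq, ← pow_mul, ha]
    · intro b _
      by_cases hb : ∃ a₀ : A, a₀ * a₀ = b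
      · obtain ⟨a₀, rfl⟩ := hb
        refine le_trans (Finset.card_le_card (t := {a₀, a₀ * z}) ?_) Finset.card_le_two
        intro a ha
        simp only [Finset.mem_filter, Finset.mem_univ, true_and] at ha
        have : (a₀⁻¹ * a) * (a₀⁻¹ * a) = 1 := by
          rw [mul_mul_mul_comm, ha.2, ← mul_inv, inv_mul_cancel]
        rcases h _ this with h' | h'
        · simp [(inv_mul_eq_one.mp h').symm]
        · simp [(inv_mul_eq_iff_eq_mul.mp h')]
      · rw [Finset.card_eq_zero.mpr]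
        · omega
        · rw [Finset.eq_empty_iff_forall_notMem]
          intro a ha
          simp only [Finset.mem_filter] at ha
          exact hb ⟨a, ha.2⟩
  · refine le_trans (Finset.card_le_card (t := {1}) ?_) (by simp)
    intro a ha
    simp only [Finset.mem_filter, Finset.mem_univ, true_and] at ha
    obtain ⟨k, hk⟩ := hA a
    rw [Finset.mem_singleton, ← orderOf_eq_one_iff]
    exact Nat.eq_one_of_dvd_coprimes
      (Nat.Coprime.pow_right k (Nat.coprime_two_right.mpr ⟨c, rfl⟩))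
      (orderOf_dvd_of_pow_eq_one ha) (orderOf_dvd_of_pow_eq_one hk)

theorem TB_pw {g : G} {k : ℕ} (h : g ^ 2 ^ k = 1) (h1 : g ≠ 1) :
    ∃ m : ℕ, g ^ m ≠ 1 ∧ g ^ m * g ^ m = 1 := by
  induction k generalizing g with
  | zero => exact absurd (by simpa using h) h1
  | succ k ih =>
    by_cases h2 : g * g = 1
    · exact ⟨1, by simpa using h1, by simpa using h2⟩
    · obtain ⟨m, h3, h4⟩ := ih (g := g * g) (by rw [← sq, ← pow_mul, ← pow_succ', h]) h2
      exact ⟨2 * m, by rwa [pow_mul, sq], by rwa [pow_mul, sq]⟩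

theorem TB_ord {v : G} (h : v * v = 1) (h1 : v ≠ 1) : orderOf v = 2 :=
  orderOf_eq_prime (by rw [sq, h]) h1

theorem TCfg.exists_y {S T R : Subgroup G} {u : G} (c : TCfg S T R u) : ∃ y, TY T R y := by
  have : Fact (Nat.Prime 2) := ⟨Nat.prime_two⟩
  obtain ⟨e⟩ := c.iso
  have RT : ∀ r ∈ R, r ∈ T → r = 1 := fun r h h' => mem_bot.1 (c.disj ▸ mem_inf.2 ⟨h, h'⟩)
  have uu : u * u = 1 := by rw [← sq, ← c.u2, pow_orderOf_eq_one]
  have u1 : u ≠ 1 := fun h => by simpa [h] using c.u2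
  have Ru : ∀ v ∈ R, v * v = 1 → v = 1 ∨ v = u := fun v hv h =>
    or_iff_not_imp_left.2 fun h1 => c.uniq v hv (TB_ord h h1)
  obtain ⟨t, ht, t1, Xt⟩ : ∃ t ∈ T ⊓ 𝐍(R), t ≠ 1 ∧ ∀ v ∈ T ⊓ 𝐍(R), v * v = 1 → v = 1 ∨ v = t := by
    refine ⟨e.symm ⟨u, c.uR⟩, (e.symm _).2, fun h => u1 ?_, fun v hv h => ?_⟩
    · exact congrArg Subtype.val (e.symm.map_eq_one_iff.1 (Subtype.ext h))
    · have h1 : e ⟨v, hv⟩ * e ⟨v, hv⟩ = 1 := by
        rw [← map_mul, e.map_eq_one_iff]; exact Subtype.ext h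
      rcases Ru _ (e ⟨v, hv⟩).2 (congrArg Subtype.val h1) with h2 | h2
      · exact Or.inl (congrArg Subtype.val (e.map_eq_one_iff.1 (Subtype.ext h2)))
      · exact Or.inr (congrArg Subtype.val
          (e.eq_symm_apply.2 (Subtype.ext h2 : e ⟨v, hv⟩ = ⟨u, c.uR⟩)))
  have cRX : ∀ r ∈ R, ∀ x ∈ T ⊓ 𝐍(R), r * x = x * r := fun r hr x hx =>
    (commutator_eq_bot_iff_le_centralizer.1 c.comm hr x hx).symm
  have TR : ¬ T ≤ 𝐍(R) := fun h => by
    obtain ⟨E, hE, h4⟩ := c.four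
    have h1 : (E : Set G) ⊆ {1, t} := fun v hv =>
      Xt v ⟨hE hv, h (hE hv)⟩ (congrArg Subtype.val (IsKleinFour.mul_self (⟨v, hv⟩ : E)))
    have h2 : Nat.card E ≤ 2 := (Set.ncard_le_ncard h1).trans ((Set.ncard_insert_le _ _).trans (by simp))
    rw [h4.card_four] at h2
    omega
  set M := R ⊔ (T ⊓ 𝐍(R)) with hM
  have mM : ∀ {m}, m ∈ M → ∃ r ∈ R, ∃ x ∈ T ⊓ 𝐍(R), m = r * x := fun h =>
    (mem_sup_of_le_normalizer_left inf_le_right).1 h
  have MN : M ≤ 𝐍(R) := sup_le le_normalizer inf_le_right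
  have RM : R ≤ M := le_sup_left
  have XM : T ⊓ 𝐍(R) ≤ M := le_sup_right
  have RN : ∀ r ∈ R, ∀ x ∈ T, r * x * r⁻¹ ∈ T := fun r hr x hx =>
    conj_mem_of_mem_normalizer (c.norm (c.RS hr)) hx
  obtain ⟨y, yT, yN, yX⟩ : ∃ y ∈ T, y ∈ 𝐍(M) ∧ y ∉ 𝐍(R) := by
    have h1 : M < S := lt_of_le_of_ne (sup_le c.RS (inf_le_left.trans c.TS))
      fun h => TR (c.TS.trans (h ▸ MN))
    obtain ⟨s, hs, hs'⟩ := SetLike.exists_of_lt (lt_inf_normalizer_of_lt c.p2 h1)
    obtain ⟨y, hy, r, hr, rfl⟩ := (mem_sup_of_le_normalizer_left (c.RS.trans c.norm)).1 (c.sup hs.1)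
    exact ⟨y, hy, (mul_mem_cancel_right (le_normalizer (RM hr))).1 hs.2,
      fun h => hs' (mul_mem (XM ⟨hy, h⟩) (RM hr))⟩
  have key : ∀ z ∈ T, z ∈ 𝐍(M) → z ∉ 𝐍(R) → z * u * z⁻¹ = u * t := fun z hz h1 h2 => by
    obtain ⟨r, hr, x, hx, e1⟩ := mM (conj_mem_of_mem_normalizer h1 (RM c.uR))
    have h3 : r * r * (x * x) = 1 := by
      calc _ = r * (r * x) * x := by group
        _ = r * (x * r) * x := by rw [cRX r hr x hx]
        _ = (r * x) * (r * x) := by group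
        _ = z * (u * u) * z⁻¹ := by rw [← e1]; group
        _ = 1 := by rw [uu]; group
    have h4 : r * r = 1 := RT _ (mul_mem hr hr)
      (by rw [eq_inv_of_mul_eq_one_left h3]; exact inv_mem (mul_mem hx.1 hx.1))
    rw [h4, one_mul] at h3
    rcases Ru r hr h4 with rfl | rfl
    · refine absurd (RT u c.uR ?_) u1
      rw [show u = z⁻¹ * (1 * x) * z by rw [← e1]; group]
      exact mul_mem (mul_mem (inv_mem hz) (mul_mem (one_mem _) hx.1)) hz
    · rcases Xt x hx h3 with rfl | rfl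
      · refine absurd (c.cent ⟨hz, mem_centralizer_singleton_iff.2 ?_⟩) h2
        rw [mul_one, mul_inv_eq_iff_eq_mul] at e1
        exact e1
      · exact e1
  have yu := key y yT yN yX
  have yXX : ∀ x ∈ T ⊓ 𝐍(R), y * x * y⁻¹ ∈ T ⊓ 𝐍(R) := fun x hx =>
    ⟨T.mul_mem (T.mul_mem yT hx.1) (T.inv_mem yT), MN (conj_mem_of_mem_normalizer yN (XM hx))⟩
  have two : ∀ z ∈ T, z ∈ 𝐍(M) → z ∈ 𝐍(R) ∨ z * y⁻¹ ∈ 𝐍(R) := fun z hz h1 =>
    or_iff_not_imp_left.2 fun h2 => by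
      have h3 : y⁻¹ * z ∈ T := mul_mem (inv_mem yT) hz
      have h4 : y⁻¹ * z * u = u * (y⁻¹ * z) := by
        calc _ = y⁻¹ * (z * u * z⁻¹) * z := by group
          _ = _ := by rw [key z hz h1 h2, ← yu]; group
      have := (yXX _ ⟨h3, c.cent ⟨h3, mem_centralizer_singleton_iff.2 h4⟩⟩).2
      rwa [show y * (y⁻¹ * z) * y⁻¹ = z * y⁻¹ by group] at this
  have ti : ∀ r ∈ R, y * r * y⁻¹ ∈ R → r = 1 := fun r hr h => by
    by_contra h1
    obtain ⟨k, hk⟩ := c.p2 ⟨r, c.RS hr⟩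
    obtain ⟨m, h2, h3⟩ := TB_pw (k := k) (congrArg Subtype.val hk) h1
    have h4 := pow_mem h m
    rw [conj_pow, (Ru _ (pow_mem hr m) h3).resolve_left h2, yu, mul_mem_cancel_left c.uR] at h4
    exact t1 (RT t h4 ht.1)
  have fpf : ∀ r ∈ R, y * r * y⁻¹ = r → r = 1 := fun r hr h => ti r hr (by rwa [h])
  have φX : ∀ r ∈ R, r⁻¹ * (y * r * y⁻¹) ∈ T ⊓ 𝐍(R) := fun r hr =>
    ⟨by simpa [mul_assoc] using mul_mem (RN _ (inv_mem hr) y yT) (inv_mem yT),
      MN (mul_mem (RM (inv_mem hr)) (conj_mem_of_mem_normalizer yN (RM hr)))⟩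
  have cR : ∀ r' ∈ R, ∀ r ∈ R, r' * r = r * r' := fun r' hr' r hr => by
    have h1 : y⁻¹ * r' * y ∈ 𝐍(R) := MN (conj_mem_of_mem_normalizer' yN (RM hr'))
    have h2 : y * r * y⁻¹ ∈ 𝐍(R) := MN (conj_mem_of_mem_normalizer yN (RM hr))
    have h3 := ti _ (mul_mem (conj_mem_of_mem_normalizer h1 hr) (inv_mem hr)) (by
      have := mul_mem hr' (conj_mem_of_mem_normalizer h2 (inv_mem hr'))
      convert this using 1
      group)
    have h4 : r' * (y * r * y⁻¹) = y * r * y⁻¹ * r' := by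
      calc _ = y * (y⁻¹ * r' * y * r * (y⁻¹ * r' * y)⁻¹ * r⁻¹) * y⁻¹ * (y * r * y⁻¹ * r') := by group
        _ = _ := by rw [h3]; group
    calc r' * r = r' * (y * r * y⁻¹) * (r⁻¹ * (y * r * y⁻¹))⁻¹ := by group
      _ = y * r * y⁻¹ * (r' * (r⁻¹ * (y * r * y⁻¹))⁻¹) := by rw [h4]; group
      _ = _ := by rw [cRX r' hr' _ (inv_mem (φX r hr))]; group
  have cX : ∀ a b : ↥(T ⊓ 𝐍(R)), a * b = b * a := fun a b => e.injective (by
    rw [map_mul, map_mul]; exact Subtype.ext (cR _ (e a).2 _ (e b).2))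
  refine ⟨y, ?_, ?_, yT, yX, yN, fun x hx => ?_, fpf, two⟩
  · let _ : CommGroup ↥(T ⊓ 𝐍(R)) := { (inferInstance : Group ↥(T ⊓ 𝐍(R))) with mul_comm := cX }
    exact TB_cyc (c.p2.to_le (inf_le_left.trans c.TS)) ⟨t, ht⟩ fun a h =>
      (Xt a a.2 (congrArg Subtype.val h)).imp Subtype.ext Subtype.ext
  · refine commutator_eq_bot_iff_le_centralizer.2 fun a ha b hb => ?_
    obtain ⟨r, hr, x, hx, rfl⟩ := mM ha
    obtain ⟨r', hr', x', hx', rfl⟩ := mM hb
    have h1 : x' * x = x * x' := congrArg Subtype.val (cX ⟨x', hx'⟩ ⟨x, hx⟩)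
    exact ((Commute.mul_right (cR r' hr' r hr) (cRX r' hr' x hx)).mul_left
      (Commute.mul_right (cRX r hr x' hx').symm h1)).eq
  · have h1 : Function.Injective fun r : R => (⟨_, φX r r.2⟩ : ↥(T ⊓ 𝐍(R))) := fun a b h => by
      have h2 : (a : G)⁻¹ * (y * a * y⁻¹) = (b : G)⁻¹ * (y * b * y⁻¹) := congrArg Subtype.val h
      refine (Subtype.ext (mul_inv_eq_one.1 (fpf _ (mul_mem b.2 (inv_mem a.2)) ?_))).symm
      calc _ = b * ((b : G)⁻¹ * (y * b * y⁻¹)) * ((a : G)⁻¹ * (y * a * y⁻¹))⁻¹ * (a : G)⁻¹ := by group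
        _ = _ := by rw [h2]; group
    obtain ⟨⟨r, hr⟩, h2⟩ := (Finite.injective_iff_surjective_of_equiv e.symm.toEquiv).1 h1 ⟨x, hx⟩
    have h3 : r⁻¹ * (y * r * y⁻¹) = x := congrArg Subtype.val h2
    have h4 : y⁻¹ * y⁻¹ ∈ 𝐍(R) :=
      (two _ (inv_mem yT) (inv_mem yN)).resolve_left fun h => yX (inv_mem_iff.1 h)
    have h5 := cRX r hr _ ⟨T.mul_mem (T.inv_mem yT) (T.inv_mem yT), h4⟩
    rw [← h3]
    calc _ = (y * r * y⁻¹)⁻¹ * (y * y * (r * (y⁻¹ * y⁻¹))) := by group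
      _ = _ := by rw [h5]; group

end H42F
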