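import Mathlib
import Cfsg.Agent.Base
import Cfsg.Agent.Lib.FSet.Defs
import Cfsg.Agent.Lib.Inv73.D8

set_option autoImplicit false
set_option linter.unusedSectionVars false

namespace H42F

open Subgroup H69
open scoped commutatorElement

variable {G : Type*} [Group G] [Finite G]

theorem TC_yy {T R : Subgroup G} {y : G} (hy : TY T R y) : y * y ∈ T ⊓ 𝐍(R) :=
  ⟨mul_mem hy.yT hy.yT, (hy.two _ (mul_mem hy.yT hy.yT) (mul_mem hy.yN hy.yN)).resolve_right fun h =>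
    hy.yX (by rwa [mul_inv_cancel_right] at h)⟩

theorem TC_norm {S T R : Subgroup G} {u y : G} (c : TCfg S T R u) (hy : TY T R y) {r : G} (hr : r ∈ R)
    (hr2 : r * r ≠ 1) : S ≤ 𝐍((R ⊔ (T ⊓ 𝐍(R)) : Subgroup G)) := by
  have : Fact (Nat.Prime 2) := ⟨Nat.prime_two⟩
  obtain ⟨M, hM⟩ : ∃ M : Subgroup G, M = R ⊔ (T ⊓ 𝐍(R)) := ⟨_, rfl⟩
  have RM : R ≤ M := hM ▸ le_sup_left
  have XM : T ⊓ 𝐍(R) ≤ M := hM ▸ le_sup_right
  have yN : y ∈ 𝐍(M) := hM ▸ hy.yN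
  have cm : ∀ a ∈ M, ∀ b ∈ M, a * b = b * a := fun a ha b hb =>
    mem_centralizer_iff_commute.1 (le_centralizer_of_commutator_eq_bot (hM ▸ hy.ab : ⁅M, M⁆ = ⊥) hb) a ha
  have MN : M ≤ S ⊓ 𝐍(M) := le_inf (hM ▸ sup_le c.RS (inf_le_left.trans c.TS)) le_normalizer
  have dec : ∀ s ∈ S ⊓ 𝐍(M), s ∈ M ∨ s * y⁻¹ ∈ M := fun s hs => by
    obtain ⟨t, ht, v, hv, rfl⟩ := (mem_sup_of_le_normalizer_left (c.RS.trans c.norm)).1 (c.sup hs.1)
    have tN : t ∈ 𝐍(M) := (mul_mem_cancel_right (le_normalizer (RM hv))).1 hs.2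
    rcases hy.two t ht (hM ▸ tN) with h | h
    · exact .inl (mul_mem (XM ⟨ht, h⟩) (RM hv))
    · right
      have := mul_mem (XM ⟨T.mul_mem ht (T.inv_mem hy.yT), h⟩) (conj_mem_of_mem_normalizer yN (RM hv))
      simpa [mul_assoc] using this
  have sq : ∀ s ∈ S ⊓ 𝐍(M), s * s ∈ M := fun s hs => by
    rcases dec s hs with h | h
    · exact mul_mem h h
    · have := mul_mem (mul_mem h (conj_mem_of_mem_normalizer yN h)) (XM (TC_yy hy))
      simpa [mul_assoc] using this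
  rw [← hM]
  by_contra hn
  have lt : S ⊓ 𝐍(M) < S := lt_of_le_of_ne inf_le_left fun e => hn (inf_eq_left.1 e)
  obtain ⟨z, hz, hz'⟩ := SetLike.exists_of_lt (lt_inf_normalizer_of_lt c.p2 lt)
  have n : ¬ M ^ᶜ z ≤ M := fun h => hz' ⟨hz.1, mem_normalizer_of_cj_le h⟩
  obtain ⟨s, hs, hs'⟩ := SetLike.not_le_iff_exists.1 n
  have m := (dec s (cj_le_of_mem_normalizer MN hz.2 hs)).resolve_left hs'
  have r2 := sq _ (conj_mem_of_mem_normalizer' hz.2 (MN (RM hr)))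
  have e1 := cm _ (mem_cj.1 hs) _ r2
  have e2 : s * (r * r) = r * r * s := by
    have := congrArg (fun x => z * x * z⁻¹) e1
    simpa [mul_assoc] using this
  have e3 := cm _ m _ (RM (mul_mem hr hr))
  refine hr2 (hy.fpf _ (mul_mem hr hr) ?_)
  have e4 : Commute (s * y⁻¹) (r * r) := e3
  have e5 : Commute s (r * r) := e2
  have := e4.inv_left.mul_left e5
  rw [mul_inv_rev, inv_inv, inv_mul_cancel_right] at this
  rw [this.eq, mul_inv_cancel_right]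

theorem TCfg.big {S T R : Subgroup G} {u y : G} (c : TCfg S T R u) (hy : TY T R y) {r : G} (hr : r ∈ R)
    (hr2 : r * r ≠ 1) : ∃ n : ℕ, 2 ≤ n ∧ Nonempty (↥T ≃* DihedralGroup n) := by
  have nm := TC_norm c hy hr hr2
  have dec : ∀ t ∈ T, t ∈ T ⊓ 𝐍(R) ∨ t * y⁻¹ ∈ T ⊓ 𝐍(R) := fun t ht =>
    (hy.two t ht (nm (c.TS ht))).imp (fun h => ⟨ht, h⟩) fun h => ⟨T.mul_mem ht (T.inv_mem hy.yT), h⟩
  have cyc := hy.cyc
  have y2 : y * y = 1 := by
    by_contra n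
    obtain ⟨E, hE, k⟩ := c.four
    have le : E ≤ T ⊓ 𝐍(R) := fun e he => (dec e (hE he)).resolve_right fun h => n (by
      have e1 : e * e = 1 := congrArg Subtype.val (IsKleinFour.mul_self (⟨e, he⟩ : E))
      have e2 := hy.inv _ h
      calc y * y = e * y⁻¹ * (e * y⁻¹)⁻¹ * (y * y) := by group
        _ = e * e := by rw [← e2]; group
        _ = 1 := e1)
    exact IsKleinFour.not_isCyclic (isCyclic_of_le le)
  obtain ⟨a, ha⟩ := (Subgroup.isCyclic_iff_exists_zpowers_eq_top _).1 cyc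
  have aX : a ∈ T ⊓ 𝐍(R) := ha ▸ mem_zpowers a
  have two : 2 ≤ orderOf a := by
    obtain ⟨e⟩ := c.iso
    rw [← Nat.card_zpowers, ha, Nat.card_congr e.toEquiv]
    exact (one_lt_card_iff_ne_bot R).2 fun h => hr2 (by rw [show r = 1 from mem_bot.1 (h ▸ hr), mul_one])
  refine ⟨_, two, H73.DihData.nonempty_mulEquiv (a := a) (b := y) ⟨rfl, y2, hy.inv a aX,
    fun h => hy.yX (ha ▸ h : y ∈ T ⊓ 𝐍(R)).2, fun g => ⟨fun hg => ?_, ?_⟩⟩ (by omega)⟩
  · rcases dec g hg with h | h <;> rw [← ha] at h <;> obtain ⟨i, e⟩ := mem_zpowers_iff.1 h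
    · exact ⟨i, .inl e.symm⟩
    · exact ⟨i, .inr (by rw [e, inv_mul_cancel_right])⟩
  · rintro ⟨i, rfl | rfl⟩
    · exact T.zpow_mem aX.1 i
    · exact T.mul_mem (T.zpow_mem aX.1 i) hy.yT

end H42F
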