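import Mathlib
import Cfsg.Agent.Base
import Cfsg.Agent.Lib.FSet.Defs
import Cfsg.Agent.Lib.FSet.Bas

set_option autoImplicit false
set_option linter.unusedSectionVars false

namespace H42F

open Subgroup H69
open scoped commutatorElement

variable {G : Type*} [Group G] [Finite G] {D : Set (Subgroup G)} {p q : ℕ}

theorem HA_norm_relCent {X H N : Subgroup G} (hH : X ≤ 𝐍(H)) (hN : X ≤ 𝐍(N)) :
    X ≤ 𝐍(H2.relCentralizer H N) := by
  apply le_normalizer_of_cj_le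
  intro g hg
  have h0 := H2.le_relCentralizer_iff.1 (le_refl (H2.relCentralizer H N))
  rw [H2.le_relCentralizer_iff]
  constructor
  · have := cj_mono g h0.1
    rwa [cj_normalizer, cj_eq_of_mem_normalizer (hN hg)] at this
  · have := cj_mono g h0.2
    rwa [cj_commutator, cj_eq_of_mem_normalizer (hN hg), cj_eq_of_mem_normalizer (hH hg)] at this

/-- a `q`-group acting on a section `R / T` of a `q`-group has a nontrivial fixed point -/
theorem HA_exists_fixed [Fact q.Prime] {T R P : Subgroup G} (hR : IsPGroup q R) (hP : IsPGroup q P)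
    (hTR : T < R) (hPT : P ≤ 𝐍(T)) (hPR : P ≤ 𝐍(R)) : ∃ L, T < L ∧ L ≤ R ∧ ⁅L, P⁆ ≤ T := by
  obtain ⟨L, ⟨h1, h2, h3⟩, hmin⟩ :=
    exists_minimal_of_wellFoundedLT (fun L : Subgroup G => T < L ∧ L ≤ R ∧ P ≤ 𝐍(L)) ⟨R, hTR, le_rfl, hPR⟩
  refine ⟨L, h1, h2, ?_⟩
  by_contra hne
  have hle : T ⊔ ⁅L, P⁆ ≤ L := sup_le h1.le (commutator_le_left_of_le_normalizer h3)
  have hlt : T < T ⊔ ⁅L, P⁆ := lt_of_le_of_ne le_sup_left fun e => hne (e ▸ le_sup_right)
  have := hmin (y := T ⊔ ⁅L, P⁆) ⟨hlt, hle.trans h2,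
    H69.le_normalizer_sup hPT (H69.le_normalizer_commutator h3 le_normalizer)⟩ hle
  exact h1.not_ge (le_of_le_sup_commutator (hR.to_le h2) hP h3 h1.le hPT this)

theorem HC.exists_J (h : Geo p q D) (h2 : Cl2 D) {Y A : Subgroup G} {z : G} (c : HC D Y A z) : ∃ J, HJ D Y z J := by
  have : Fact q.Prime := ⟨h.qprime⟩
  have hIY : II D Y z ≤ Y := II_le Y z
  have hTQ : T1 D Y z ≤ ⁅Y, Y⁆ := sup_le (commutator_mono hIY hIY) (W_le_comm Y)
  have hQT : ⁅Y, Y⁆ ≤ 𝐍(T1 D Y z) := by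
    apply le_normalizer_of_commutator_le_right
    refine (commutator_mono le_rfl hTQ).trans (le_trans ?_ le_sup_right)
    exact le_inf (comm_le _) (h2 Y c.sub)
  have hPY : PP D Y z ≤ 𝐍(Y) := inf_le_right
  have hPI : PP D Y z ≤ 𝐍(II D Y z) := le_normalizer_of_le_centralizer (PP_le_cent Y z)
  have hPT : PP D Y z ≤ 𝐍(T1 D Y z) :=
    H69.le_normalizer_sup (hPI.trans (normalizer_le_comm _)) (hPY.trans (normalizer_le_W _))
  have hAT : A ≤ 𝐍(T1 D Y z) :=
    H69.le_normalizer_sup (c.AI.trans (le_normalizer_comm _))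
      (c.AY.trans (le_normalizer.trans (normalizer_le_W _)))
  have hAP : A ≤ 𝐍(PP D Y z) :=
    le_normalizer_of_le_centralizer (c.AI.trans (le_centralizer_iff.1 (PP_le_cent Y z)))
  have hlt : T1 D Y z < ⁅Y, Y⁆ := by
    refine lt_of_le_of_ne hTQ fun e => c.nle ?_
    have : Y ≤ II D Y z := h.le_of_Q_le c.sub c.pt c.AY c.AI
      (e.ge.trans (sup_le_sup_right (comm_le _) _)) hIY
    exact this.trans ((gen_le _).trans inf_le_right)
  have hP : IsPGroup q (PP D Y z) := (h.isPGroup_W c.subX).to_le inf_le_left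
  obtain ⟨L, hL1, hL2, hL3⟩ := HA_exists_fixed (h.loc Y c.sub).L1 hP hlt hPT
    (hPY.trans (normalizer_le_comm _))
  set J0 := ⁅Y, Y⁆ ⊓ H2.relCentralizer (PP D Y z) (T1 D Y z) with hJ0
  have hLJ : L ≤ J0 := le_inf hL2 (H2.le_relCentralizer_iff.2 ⟨hL2.trans hQT, hL3⟩)
  have hAJ : A ≤ 𝐍(J0) :=
    H69.le_normalizer_inf (c.AY.trans (le_normalizer_comm _)) (HA_norm_relCent hAP hAT)
  have hJY : J0 ⊔ A ≤ Y := sup_le (inf_le_left.trans (comm_le _)) c.AY
  have hJY' : gen D (J0 ⊔ A) ≤ Y := (gen_le _).trans hJY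
  have hQJ : ⁅gen D (J0 ⊔ A), gen D (J0 ⊔ A)⁆ ≤ J0 := by
    have e : (J0 ⊔ A) ⊓ ⁅Y, Y⁆ = J0 := by
      rw [dedekind_left hAJ inf_le_left, h.inf_Q_eq_bot c.sub c.pt, sup_bot_eq]
    exact (le_inf ((comm_le _).trans (gen_le _)) (commutator_mono hJY' hJY')).trans e.le
  refine ⟨gen D (J0 ⊔ A), sub_gen (fun e => c.sub.ne_top (top_le_iff.1 (e.ge.trans hJY))) c.pt le_sup_right,
    c.subI.le_gen ?_, hJY', fun hle => hL1.not_ge (hLJ.trans ?_), ?_⟩
  · rw [← h.eq_Q_sup c.subI c.pt c.AI]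
    exact sup_le_sup_right (le_sup_left.trans (hL1.le.trans hLJ)) _
  · refine (h.split (T := J0) c.sub c.pt c.AY inf_le_left hAJ).ge.trans ?_
    exact sup_le ((h.comm_le_Q (T := J0) c.sub c.pt inf_le_left hAJ le_sup_right le_sup_left).trans hle)
      (inf_le_right.trans le_sup_right)
  · exact (commutator_mono hQJ le_rfl).trans (H2.le_relCentralizer_iff.1 (inf_le_right : J0 ≤ _)).2

end H42F
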