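import Mathlib
import Cfsg.Agent.Base
import Cfsg.Agent.Lib.FSet.Defs
import Cfsg.Agent.Lib.FSet.Bas

set_option autoImplicit false
set_option linter.unusedSectionVars false

namespace H42F

open Subgroup H69
open scoped commutatorElement

variable {G : Type*} [Group G] [Finite G] {D : Set (Subgroup G)} {p q : ℕ}

/-- the elements of `Y'` centralizing `z` modulo `W Y` -/
def HB_U (Y : Subgroup G) (z : G) : Subgroup G where
  carrier := {x | x ∈ ⁅Y, Y⁆ ∧ ⁅x, z⁆ ∈ W Y}
  one_mem' := ⟨one_mem _, by simp⟩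
  mul_mem' := fun {a b} ha hb => ⟨mul_mem ha.1 hb.1, by
    rw [commutatorElement_mul_left_eq_conj_mul]
    exact mul_mem (conj_mem_of_mem_normalizer
      (normalizer_le_W Y (le_normalizer (comm_le Y ha.1))) hb.2) ha.2⟩
  inv_mem' := fun {a} ha => ⟨inv_mem ha.1, by
    rw [commutatorElement_inv_left]
    refine conj_mem_of_mem_normalizer' (normalizer_le_W Y (le_normalizer (comm_le Y ha.1))) ?_
    rw [← commutatorElement_inv]
    exact inv_mem ha.2⟩

theorem HC.mem_T1 (h : Geo p q D) (h2 : Cl2 D) {Y A : Subgroup G} {z : G} (c : HC D Y A z) {u : G}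
    (hu : u ∈ ⁅Y, Y⁆) (hz : ⁅u, z⁆ ∈ W Y) : u ∈ T1 D Y z := by
  have hU : HB_U Y z ≤ ⁅Y, Y⁆ := fun _ hx => hx.1
  have az : ∀ a ∈ A, a * z = z * a := fun a ha => mem_centralizer_singleton_iff.1 (c.Az ha)
  have hn : A ≤ 𝐍(HB_U Y z) := le_normalizer_of_cj_le fun a ha => by
    rintro _ ⟨x, hx, rfl⟩
    refine ⟨conj_mem_of_mem_normalizer (le_normalizer_comm Y (c.AY ha)) hx.1, ?_⟩
    have e : ⁅a * x * a⁻¹, z⁆ = a * ⁅x, z⁆ * a⁻¹ := by
      conv_lhs => rw [show z = a * z * a⁻¹ by rw [az a ha, mul_inv_cancel_right]]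
      simp only [commutatorElement_def]; group
    change ⁅a * x * a⁻¹, z⁆ ∈ W Y
    rw [e]
    exact conj_mem_of_mem_normalizer (normalizer_le_W Y (le_normalizer (c.AY ha))) hx.2
  have hT : ⁅HB_U Y z, A⁆ ≤ HB_U Y z := commutator_le_left_of_le_normalizer hn
  have hC : ⁅HB_U Y z, A⁆ ≤ centralizer {z} := by
    rw [commutator_le]
    intro x hx a ha
    rw [mem_centralizer_singleton_iff]
    have hxY := comm_le Y hx.1
    have k := mem_centralizer_iff_commute.1 (W_le_cent Y hx.2) (x * a * x⁻¹)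
      (mul_mem (mul_mem hxY (c.AY ha)) (inv_mem hxY))
    have e1 : z * a * z⁻¹ = a := by rw [← az a ha, mul_inv_cancel_right]
    have e2 : z * x * z⁻¹ = ⁅x, z⁆⁻¹ * x := by simp only [commutatorElement_def]; group
    symm
    rw [← mul_inv_eq_iff_eq_mul]
    calc _ = (z * x * z⁻¹) * (z * a * z⁻¹) * (z * x * z⁻¹)⁻¹ * (z * a * z⁻¹)⁻¹ := by
          simp only [commutatorElement_def]; group
      _ = ⁅x, z⁆⁻¹ * (x * a * x⁻¹ * ⁅x, z⁆) * a⁻¹ := by rw [e1, e2]; group
      _ = _ := by rw [k, commutatorElement_def x a]; group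
  have e := H2.commutator_commutator_eq hn (h.coprime c.sub c.pt hU)
  have hI : ⁅HB_U Y z, A⁆ ≤ ⁅II D Y z, II D Y z⁆ := by
    rw [← e]
    exact h.comm_le_Q c.sub c.pt (hT.trans hU) (normalizer_commutator_ge_right _ _)
      (le_inf c.AY c.Az) (le_inf ((hT.trans hU).trans (comm_le Y)) hC)
  have := h.split c.sub c.pt c.AY hU hn
  have hu' : u ∈ HB_U Y z := ⟨hu, hz⟩
  rw [← this] at hu'
  exact sup_le_sup hI inf_le_right hu'

end H42F
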