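import Mathlib
import Cfsg.Agent.Base
import Cfsg.Agent.Lib.FSet.Defs
import Cfsg.Agent.Lib.FSet.Bas

set_option autoImplicit false
set_option linter.unusedSectionVars false
set_option linter.unusedVariables false

namespace H42F

open Subgroup H69
open scoped commutatorElement

variable {G : Type*} [Group G] [Finite G] {D : Set (Subgroup G)} {p q : ℕ}

theorem hc_nZ (L : Subgroup G) : L ≤ 𝐍(center G) :=
  le_top.trans (normal_iff_top_le_normalizer.1 inferInstance)

theorem hc_bot {A B N : Subgroup G} (h : A ≤ 𝐂(B)) : ⁅A, B⁆ ≤ N :=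
  (commutator_eq_bot_of_le_centralizer h).le.trans bot_le

theorem hc_bot' {A B N : Subgroup G} (h : B ≤ 𝐂(A)) : ⁅A, B⁆ ≤ N := by
  rw [commutator_comm]
  exact hc_bot h

theorem hc_W {Y X : Subgroup G} (h : X ≤ Y) : W Y ≤ 𝐂(X) := (W_le_cent Y).trans (centralizer_anti h)

theorem hc_QQ (h2 : Cl2 D) {X : Subgroup G} (hX : Sub D X) : ⁅⁅X, X⁆, ⁅X, X⁆⁆ ≤ W X :=
  le_inf (comm_le _) (h2 X hX)

theorem hc_sup {X A B N : Subgroup G} (hA : A ≤ N) (hB : B ≤ N) (h1 : ⁅X, A⁆ ≤ N) (h2 : ⁅X, B⁆ ≤ N) :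
    ⁅X, A ⊔ B⁆ ≤ N :=
  commutator_sup_le_right (le_normalizer_of_le hA) (le_normalizer_of_le hB) h1 h2

theorem HC.comm_P (h : Geo p q D) (h2 : Cl2 D) {Y A J : Subgroup G} {z : G} (c : HC D Y A z) (j : HJ D Y z J) :
    ⁅⁅⁅J, J⁆, ⁅II D Y z, II D Y z⁆⁆, PP D Y z⁆ ≤ center G := by
  refine three_subgroups (hc_nZ _) (hc_nZ _) (hc_nZ _) ?_ ?_
  · refine (commutator_mono (hc_bot' (N := ⊥) ((PP_le_cent Y z).trans (centralizer_anti (comm_le _)))) le_rfl).trans ?_
    rw [commutator_bot_left]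
    exact bot_le
  · rw [commutator_comm (PP D Y z)]
    exact (commutator_mono j.comm le_rfl).trans (commutator_sup_le_left (hc_nZ _) (hc_nZ _)
      ((hc_QQ h2 c.subI).trans c.WI) (hc_bot (hc_W ((comm_le _).trans (II_le Y z)))))

theorem HC.comm_le (h : Geo p q D) (h2 : Cl2 D) {Y A J : Subgroup G} {z : G} (c : HC D Y A z) (j : HJ D Y z J) :
    ⁅⁅J, J⁆, ⁅II D Y z, II D Y z⁆⁆ ≤ W Y ⊓ 𝐍(Xc D z) := by
  refine le_inf ((commutator_mono (commutator_mono j.JY j.JY)
    (commutator_mono (II_le Y z) (II_le Y z))).trans (hc_QQ h2 c.sub)) fun x hx => ?_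
  have k := mem_center_iff.1 (c.comm_P h h2 j (commutator_mem_commutator hx c.zP))
  refine mem_normalizer_of_cj_le ?_
  rw [h.toPts.cj_Xc]
  refine gen_mono fun g hg => ?_
  rw [mem_centralizer_singleton_iff] at hg ⊢
  rw [show x * z * x⁻¹ = ⁅x, z⁆ * z by rw [commutatorElement_def, inv_mul_cancel_right], ← mul_assoc, k g,
    mul_assoc, mul_assoc] at hg
  exact mul_left_cancel hg

theorem HC.le_norm_T0 (h : Geo p q D) (h2 : Cl2 D) {Y A J : Subgroup G} {z : G} (c : HC D Y A z)
    (j : HJ D Y z J) : J ≤ 𝐍(T0 D Y z) := by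
  have e1 := c.comm_P h h2 j
  have e2 := c.comm_le h h2 j
  have AJ := c.AI.trans j.IJ
  have PI := PP_le_cent (D := D) Y z
  have AI : A ≤ 𝐍(⁅II D Y z, II D Y z⁆) := c.AI.trans (le_normalizer_comm _)
  have QY : ⁅J, J⁆ ≤ Y := (H42F.comm_le J).trans j.JY
  have zc : ∀ X : Subgroup G, center G ≤ 𝐂(X) := fun X => centralizer_top.ge.trans (centralizer_anti le_top)
  have LT : ⁅II D Y z, II D Y z⁆ ⊔ ⁅⁅J, J⁆, ⁅II D Y z, II D Y z⁆⁆ ⊔ center G ≤ T0 D Y z :=
    sup_le (sup_le (le_sup_of_le_left (le_sup_of_le_left le_sup_left))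
      (le_sup_of_le_left (le_sup_of_le_left (le_sup_of_le_right e2)))) le_sup_right
  have k : ⁅⁅J, J⁆, PP D Y z⁆ ≤ ⁅II D Y z, II D Y z⁆ ⊔ ⁅⁅J, J⁆, ⁅II D Y z, II D Y z⁆⁆ ⊔ center G := by
    conv_lhs => rw [← h.comm_Q j.sub c.pt AJ, commutator_comm _ A]
    refine three_subgroups (le_normalizer_sup (le_normalizer_sup AI
      (le_normalizer_commutator (AJ.trans (le_normalizer_comm J)) AI)) (hc_nZ _))
      (le_normalizer_of_commutator_le_right (hc_sup le_sup_left le_sup_right (hc_sup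
        (le_sup_of_le_left le_sup_left) (le_sup_of_le_left le_sup_right) (le_sup_of_le_left le_sup_right)
        (hc_bot' (e2.trans (inf_le_left.trans (hc_W QY))))) (hc_bot' (zc _))))
      (le_normalizer_of_commutator_le_right (hc_sup le_sup_left le_sup_right (hc_sup
        (le_sup_of_le_left le_sup_left) (le_sup_of_le_left le_sup_right)
        (hc_bot (PI.trans (centralizer_anti (H42F.comm_le _))))
        (le_sup_of_le_right ((commutator_comm _ _).le.trans e1))) (hc_bot' (zc _)))) ?_ ?_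
    · refine le_sup_of_le_left (le_sup_of_le_left ((commutator_mono j.comm le_rfl).trans ?_))
      exact commutator_sup_le_left le_normalizer
        (le_normalizer_of_le_centralizer (hc_W ((H42F.comm_le _).trans (II_le Y z))))
        (commutator_le_left_of_le_normalizer AI) (hc_bot (hc_W c.AY))
    · refine (commutator_mono (hc_bot (N := ⊥) (PI.trans (centralizer_anti c.AI))) le_rfl).trans ?_
      rw [commutator_bot_left]
      exact bot_le
  rw [← h.eq_Q_sup j.sub c.pt AJ]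
  refine sup_le (le_normalizer_of_commutator_le_right (hc_sup le_sup_left le_sup_right
    (hc_sup (le_sup_of_le_left le_sup_left) (le_sup_of_le_left le_sup_right)
      (hc_sup (le_sup_of_le_left (le_sup_of_le_left le_sup_left))
        (le_sup_of_le_left (le_sup_of_le_left le_sup_right)) ((le_sup_of_le_left le_sup_right).trans LT)
        (hc_bot' (inf_le_left.trans (hc_W QY)))) (k.trans LT)) (hc_bot' (zc _)))) ?_
  exact le_normalizer_sup (le_normalizer_sup (le_normalizer_sup AI (le_normalizer_of_le_centralizer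
    (le_centralizer_iff.1 (inf_le_left.trans (hc_W c.AY))))) (le_normalizer_of_le_centralizer
    (le_centralizer_iff.1 (PI.trans (centralizer_anti c.AI))))) (hc_nZ _)

end H42F
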