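import Mathlib
import Cfsg.Agent.Base
import Cfsg.Agent.Lib.FSet.Defs
import Cfsg.Agent.Lib.FSet.HA
import Cfsg.Agent.Lib.FSet.HB
import Cfsg.Agent.Lib.FSet.HC

set_option autoImplicit false
set_option linter.unusedSectionVars false

namespace H42F

open Subgroup H69
open scoped commutatorElement

variable {G : Type*} [Group G] [Finite G] {D : Set (Subgroup G)} {p q : ℕ}

theorem HC.half (h : Geo p q D) (h2 : Cl2 D) (hz : ZQ D) {Y A : Subgroup G} {z : G} (c : HC D Y A z) :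
    ∃ J, Sub D J ∧ J ≤ Y ∧ ¬ J ≤ Xc D z ∧ J ≤ 𝐍(T0 D Y z) ∧ ∃ w ∈ W J, w ∉ center G ∧ w ∈ 𝐍(Xc D z) := by
  obtain ⟨J, j⟩ := c.exists_J h h2
  refine ⟨J, j.sub, j.JY, fun hJ => j.nle ?_, c.le_norm_T0 h h2 j, ?_⟩
  · have : J ≤ II D Y z := j.sub.le_gen (le_inf j.JY (hJ.trans (Xc_le z)))
    exact (commutator_mono this this).trans le_sup_left
  have hIJ : ⁅II D Y z, II D Y z⁆ ≤ ⁅J, J⁆ := commutator_mono j.IJ j.IJ
  by_cases hc : ⁅⁅J, J⁆, ⁅II D Y z, II D Y z⁆⁆ ≤ center G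
  · exfalso
    refine j.nle fun u hu => c.mem_T1 h h2 (commutator_mono j.JY j.JY hu) ?_
    have hWC : W Y ≤ 𝐂(⁅II D Y z, II D Y z⁆) :=
      (W_le_cent Y).trans (centralizer_anti ((H42F.comm_le _).trans (II_le Y z)))
    have hm : ⁅u, z⁆ ∈ ⁅⁅J, J⁆, PP D Y z⁆ := commutator_mem_commutator hu c.zP
    obtain ⟨x, hx, ω, hω, e⟩ := (mem_sup_of_le_normalizer_left
      (le_normalizer_of_le_centralizer hWC)).1 (j.comm hm)
    have k : ⁅⁅⁅J, J⁆, PP D Y z⁆, ⁅II D Y z, II D Y z⁆⁆ = ⊥ := by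
      refine commutator_commutator_eq_bot_of_rotate ?_ ?_
      · rw [commutator_eq_bot_of_le_centralizer
          ((PP_le_cent Y z).trans (centralizer_anti (H42F.comm_le _))), commutator_bot_left]
      · rw [commutator_comm ⁅II D Y z, II D Y z⁆]
        exact commutator_eq_bot_of_le_centralizer (hc.trans (center_le_centralizer _))
    have k1 := le_centralizer_of_commutator_eq_bot k hm
    rw [e, mul_mem_cancel_right (hWC hω)] at k1
    have k2 : x ∈ 𝐂(A) := centralizer_anti c.AI (hz _ c.subI ⟨hx, k1⟩)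
    have k3 : x ∈ W Y := by
      rw [← h.W_eq c.sub c.pt c.AY]
      exact ⟨commutator_mono (II_le Y z) (II_le Y z) hx, k2⟩
    rw [e]
    exact mul_mem k3 hω
  · obtain ⟨w, hw, hw'⟩ := SetLike.not_le_iff_exists.1 hc
    have k := commutator_mono le_rfl hIJ hw
    exact ⟨w, ⟨H42F.comm_le _ k, h2 J j.sub k⟩, hw', (c.comm_le h h2 j hw).2⟩

end H42F
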