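import Mathlib
import Cfsg.Agent.Base
import Cfsg.Agent.Lib.FSet.Defs
import Cfsg.Agent.Lib.FSet.Blk
import Cfsg.Agent.Lib.FSet.HD

set_option autoImplicit false
set_option linter.unusedSectionVars false

namespace H42F

open Subgroup H69
open scoped commutatorElement

variable {G : Type*} [Group G] [Finite G] {D : Set (Subgroup G)} {p q : ℕ}

theorem hf_II (c w : G) : II D (Xc D c) w = II D (Xc D w) c := by
  have k : ∀ c w : G, II D (Xc D c) w ≤ II D (Xc D w) c := fun c w => gen_le_iff.2 fun B hB h =>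
    le_gen hB (le_inf (le_Xc hB (h.trans inf_le_right)) ((h.trans inf_le_left).trans (Xc_le c)))
  exact le_antisymm (k c w) (k w c)

theorem hf_T0 (c w : G) : T0 D (Xc D c) w = T0 D (Xc D w) c := by
  unfold T0 PP
  rw [hf_II c w, sup_right_comm _ (W (Xc D c) ⊓ _)]

theorem hf_solv {T : Subgroup G} (h : ⁅T, T⁆ ≤ center G) : Group.IsSolvable T := by
  refine ⟨⟨2, (map_eq_bot_iff_of_injective _ T.subtype_injective).1 ?_⟩⟩
  rw [derivedSeries_succ, derivedSeries_one, commutator_def, map_commutator, map_commutator,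
    ← MonoidHom.range_eq_map, range_subtype]
  exact commutator_eq_bot_of_le_centralizer (h.trans (centralizer_top.ge.trans (centralizer_anti le_top)))

theorem hf_comm (h : Geo p q D) (h2 : Cl2 D) {B A : Subgroup G} {w : G} (c : HC D B A w) (hB : Blk D B)
    (hB' : Blk D (Xc D w)) : ⁅T0 D B w, T0 D B w⁆ ≤ center G := by
  have nZ : ∀ L : Subgroup G, L ≤ 𝐍(center G) := fun L =>
    le_top.trans (normal_iff_top_le_normalizer.1 inferInstance)
  have s : ∀ {M N X : Subgroup G}, ⁅M, X⁆ ≤ center G → ⁅N, X⁆ ≤ center G → ⁅M ⊔ N, X⁆ ≤ center G :=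
    commutator_sup_le_left (nZ _) (nZ _)
  have s' : ∀ {M N X : Subgroup G}, ⁅X, M⁆ ≤ center G → ⁅X, N⁆ ≤ center G → ⁅X, M ⊔ N⁆ ≤ center G :=
    commutator_sup_le_right (nZ _) (nZ _)
  have sw : ∀ {M N : Subgroup G}, ⁅M, N⁆ ≤ center G → ⁅N, M⁆ ≤ center G := fun e =>
    (commutator_comm _ _).le.trans e
  have zr : ∀ {X : Subgroup G}, ⁅X, center G⁆ ≤ center G := @fun X =>
    commutator_le_right_of_le_normalizer (nZ X)
  have b : ∀ {X Y M : Subgroup G}, Y ≤ X → ⁅W X ⊓ M, Y⁆ ≤ center G := @fun _ _ _ e =>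
    (commutator_eq_bot_of_le_centralizer
      (inf_le_left.trans ((W_le_cent _).trans (centralizer_anti e)))).le.trans bot_le
  have h11 : ⁅⁅II D B w, II D B w⁆, ⁅II D B w, II D B w⁆⁆ ≤ center G :=
    (le_inf (comm_le _) (h2 _ c.subI)).trans c.WI
  have h21 := b (M := 𝐍(Xc D w)) ((comm_le _).trans (II_le (D := D) B w))
  have h31 := b (M := 𝐍(B)) ((comm_le _).trans (II_le_Xc (D := D) B w))
  have h23 : ⁅W B ⊓ 𝐍(Xc D w), W (Xc D w) ⊓ 𝐍(B)⁆ ≤ center G := fun x hx => by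
    by_contra k
    have e1 := h.Xc_eq hB (commutator_le_left_of_le_normalizer (normalizer_le_W B)
      (commutator_mono inf_le_left inf_le_right hx)) k
    have e2 := h.Xc_eq hB' (commutator_le_right_of_le_normalizer (normalizer_le_W _)
      (commutator_mono inf_le_right inf_le_left hx)) k
    exact c.nle ((e1.symm.trans e2).le.trans (Xc_le w))
  exact s (s (s (s' (s' (s' h11 (sw h21)) (sw h31)) zr)
    (s' (s' (s' h21 (b (inf_le_left.trans (W_le _)))) h23) zr))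
    (s' (s' (s' h31 (sw h23)) (b (inf_le_left.trans (W_le _)))) zr)) (sw zr)

theorem Geo.fixG (h : Geo p q D) (h2 : Cl2 D) (hz : ZQ D) : Fix D (Cfsg.solvableRadical G) := by
  intro X Y A w hX hY hA hw wR wN AY Aw
  have wz : w ∉ center G := fun e =>
    wR (H1.le_solvableRadical (H2.isSolvable_of_isMulCommutative inferInstance) e)
  obtain ⟨hB2, -, wW⟩ := h.blk_Xc hX hw wz
  have hc : ∀ Y, Sub D Y → A ≤ Y → w ∈ 𝐍(Y) → ¬ Y ≤ centralizer {w} → HC D Y A w := fun Y hY AY wN n =>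
    ⟨hY, wW, wz, hA, AY, Aw, wN, n, fun z hz => by
      by_contra k
      have sI : Sub D (II D Y w) :=
        sub_gen (fun e => hY.ne_top (top_le_iff.1 (e.ge.trans inf_le_left))) hA (le_inf AY Aw)
      exact n (((h.le_Xc sI hz hY (II_le Y w)).trans (hB2.max _ (h.blk_Xc sI hz k).1.sub
        (h.le_Xc sI hz hB2.sub (II_le_Xc Y w))).le).trans (Xc_le w))⟩
  by_contra n
  obtain ⟨J0, sJ0, JY, -, -, c1, hc1, k, -⟩ := (hc Y hY AY wN n).half h h2 hz
  replace hc1 := h.W_mono sJ0 hY JY hc1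
  obtain ⟨hB1, YB, -⟩ := h.blk_Xc hY hc1 k
  have wB : w ∈ 𝐍(Xc D c1) := mem_normalizer_of_cj_le (h.le_Xc hY hc1 (h.toPts.sub_cj hB1.sub w)
    ((cj_eq_of_mem_normalizer wN).ge.trans (cj_mono w YB)))
  have c := hc _ hB1.sub (AY.trans YB) wB fun e => n (YB.trans e)
  generalize Xc D c1 = B at hB1 c
  obtain ⟨J, sJ, JB, -, JN, z, hzJ, zc, zN⟩ := c.half h h2 hz
  have zW := h.W_mono sJ hB1.sub JB hzJ
  obtain rfl := h.Xc_eq hB1 zW zc
  have c' : HC D (Xc D w) A z := ⟨hB2.sub, zW, zc, hA, H42F.le_Xc hA Aw, c.AY.trans (Xc_le z), zN,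
    fun e => c.nle ((hB2.max _ hB1.sub (hB2.sub.le_gen e)).le.trans (Xc_le w)), hf_II z w ▸ c.WI⟩
  obtain ⟨J', sJ', -, nJ, JN', -⟩ := c'.half h h2 hz
  rw [← hf_T0] at JN'
  by_cases e : 𝐍(T0 D (Xc D z) w) = ⊤
  · have := normal_iff_top_le_normalizer.2 e.ge
    exact wR (H1.le_solvableRadical (hf_solv (hf_comm h h2 c hB1 hB2))
      (mem_sup_left (mem_sup_right c.zP)))
  · obtain ⟨B, hB, BJ⟩ := sJ.pt
    exact nJ ((sJ'.le_gen JN').trans (h.le_Xc sJ hzJ (sub_gen e hB (BJ.trans JN)) (sJ.le_gen JN)))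

end H42F
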